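import Groth.Agent.CanonSheaf.Basic
import Groth.Agent.OmegaSheaf.SectionConormal
import Groth.Agent.OmegaSheaf.EtalePull
import Groth.Agent.KTheory.LambdaVb

/-!
# Canonical sheaves: flat base change of the factorisation, smooth morphisms
-/

set_option autoImplicit false
set_option linter.style.haveILetI false

universe u

open CategoryTheory CategoryTheory.Limits AlgebraicGeometry TopologicalSpace

noncomputable section

namespace Groth.CanonSheaf

open Groth.LocFree (extPow)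
open scoped Groth.Abvar.PicCalc
open Groth.Abvar.PicCalc (cls)

variable {X X' Y Y' Z W : Scheme.{u}}

theorem isInvertible_of_isCanonicalVia {i : X ⟶ Z} {g : Z ⟶ Y} {c n : ℕ} [SmoothOfRelativeDimension n g]
    [QuasiSeparated g] (hc : FlatMod.IsFinLocFreeOfRank c (Omega.conormal i)) {ω : X.Modules}
    (hω : Canon.IsCanonicalVia i g c n ω) : PicF.IsInvertible ω := by
  obtain ⟨D, Ω, hD, hΩ, ⟨e⟩⟩ := hω
  obtain ⟨β, -⟩ := PicAux.exists_braiding ω D
  exact Abvar.PicCalc.isInvertible_of_tensorMod (isInvertible_det hc hD)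
    (Abvar.PicCalc.isInvertible_of_iso
      (PicLoc.isInvertible_pullback i (isInvertible_det (Groth.OmegaSheaf.isFinLocFreeOfRank_sheaf g n) hΩ))
      (e.symm ≪≫ β))

/-- The factorisation pulled back along `q`, when the conormal sheaf and the differentials pull back. -/
theorem isCanonicalVia_of_pullback {i : X ⟶ Z} {g : Z ⟶ Y} {i' : X' ⟶ W} {g' : W ⟶ Y'} {p : X' ⟶ X}
    {q : W ⟶ Z} (w : i' ≫ q = p ≫ i) {c n : ℕ} [SmoothOfRelativeDimension n g] [QuasiSeparated g]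
    (hc : FlatMod.IsFinLocFreeOfRank c (Omega.conormal i))
    (eC : (Scheme.Modules.pullback p).obj (Omega.conormal i) ≅ Omega.conormal i')
    (eΩ : (Scheme.Modules.pullback q).obj (Omega.sheaf g) ≅ Omega.sheaf g')
    {ω : X.Modules} (hω : Canon.IsCanonicalVia i g c n ω) :
    Canon.IsCanonicalVia i' g' c n ((Scheme.Modules.pullback p).obj ω) := by
  have hI := isInvertible_of_isCanonicalVia hc hω
  obtain ⟨D, Ω, hD, hΩ, ⟨e⟩⟩ := hω
  have := KTheory.LocFree.isQCoh (LocFree.isFinLocFree_of_rank hc)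
  have := KTheory.LocFree.isQCoh (LocFree.isFinLocFree_of_rank (LocFree.isFinLocFreeOfRank_pullback p hc))
  have := KTheory.LocFree.isQCoh
    (LocFree.isFinLocFree_of_rank (Groth.OmegaSheaf.isFinLocFreeOfRank_sheaf g n))
  have := KTheory.LocFree.isQCoh (LocFree.isFinLocFree_of_rank
    (LocFree.isFinLocFreeOfRank_pullback q (Groth.OmegaSheaf.isFinLocFreeOfRank_sheaf g n)))
  refine ⟨_, _, Groth.LocFree.isExtPow_of_iso_left c eC (Groth.LocFree.isExtPow_pullback p hD),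
    Groth.LocFree.isExtPow_of_iso_left n eΩ (Groth.LocFree.isExtPow_pullback q hΩ), ?_⟩
  have hJ : PicF.IsInvertible D := isInvertible_det hc hD
  have hK : PicF.IsInvertible Ω := isInvertible_det (Groth.OmegaSheaf.isFinLocFreeOfRank_sheaf g n) hΩ
  have h := (Abvar.PicCalc.nonempty_iso_iff (Abvar.PicCalc.isInvertible_tensorMod hI hJ)
    (PicLoc.isInvertible_pullback i hK)).1 ⟨e⟩
  rw [Abvar.PicCalc.cls_tensorMod hI hJ, ← Abvar.PicCalc.pull_cls i hK] at h
  refine (Abvar.PicCalc.nonempty_iso_iff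
    (Abvar.PicCalc.isInvertible_tensorMod (PicLoc.isInvertible_pullback p hI) (PicLoc.isInvertible_pullback p hJ))
    (PicLoc.isInvertible_pullback i' (PicLoc.isInvertible_pullback q hK))).2 ?_
  rw [Abvar.PicCalc.cls_tensorMod (PicLoc.isInvertible_pullback p hI) (PicLoc.isInvertible_pullback p hJ),
    ← Abvar.PicCalc.pull_cls p hI, ← Abvar.PicCalc.pull_cls p hJ, ← map_mul, h,
    ← Abvar.PicCalc.pull_cls i' (PicLoc.isInvertible_pullback q hK), ← Abvar.PicCalc.pull_cls q hK,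
    ← Abvar.PicCalc.pull_comp, ← Abvar.PicCalc.pull_comp, w]

/-- Flat base change of a factorisation. -/
theorem isCanonicalVia_of_isPullback {i : X ⟶ Z} {g : Z ⟶ Y} {i' : X' ⟶ W} {g' : W ⟶ Y'} {p : X' ⟶ X}
    {q : W ⟶ Z} (sq : IsPullback i' p q i) [IsImmersion i] [IsImmersion i'] [QuasiCompact i] [QuasiCompact i']
    [Flat q] {c n : ℕ} [SmoothOfRelativeDimension n g] [QuasiSeparated g]
    (hc : FlatMod.IsFinLocFreeOfRank c (Omega.conormal i))
    (eΩ : (Scheme.Modules.pullback q).obj (Omega.sheaf g) ≅ Omega.sheaf g')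
    {ω : X.Modules} (hω : Canon.IsCanonicalVia i g c n ω) :
    FlatMod.IsFinLocFreeOfRank c (Omega.conormal i') ∧
      Canon.IsCanonicalVia i' g' c n ((Scheme.Modules.pullback p).obj ω) := by
  obtain ⟨φ, hφ, -⟩ := Groth.OmegaSheaf.existsUnique_isConormalMap (i := i') i q p sq.w.symm
  have := (Groth.Agent.S9372.result i' i q p sq φ hφ).2 inferInstance
  exact ⟨LocFree.isFinLocFreeOfRank_of_iso (asIso φ) (LocFree.isFinLocFreeOfRank_pullback p hc),
    isCanonicalVia_of_pullback sq.w hc (asIso φ) eΩ hω⟩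

/-- On an open on which the morphism is smooth, the canonical sheaf is the sheaf of top forms. -/
theorem isTopDiff_restrict {f : X ⟶ Y} {ω : X.Modules} (hω : Canon.IsCanonical f ω) (U : X.Opens) (d : ℕ)
    [SmoothOfRelativeDimension d (U.ι ≫ f)] [QuasiSeparated (U.ι ≫ f)] :
    Canon.IsTopDiff (U.ι ≫ f) d ((Scheme.Modules.pullback U.ι).obj ω) := by
  obtain ⟨Z, i, g, c, n, rfl, hi, hg, hqc, hqs, hω⟩ := hω
  have := hi.1
  have hc := isFinLocFreeOfRank_conormal i hi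
  obtain ⟨V, hV, hVU⟩ := i.isEmbedding.isInducing.isOpen_iff.1 U.2
  obtain rfl : i ⁻¹ᵁ (⟨V, hV⟩ : Z.Opens) = U := Opens.ext hVU
  let Z' : Z.Opens := ⟨V, hV⟩
  have sq : IsPullback (i ∣_ Z') (i ⁻¹ᵁ Z').ι Z'.ι i := isPullback_morphismRestrict i Z'
  have : IsImmersion (i ∣_ Z') := MorphismProperty.of_isPullback sq.flip ‹IsImmersion i›
  have : QuasiCompact (i ∣_ Z') := MorphismProperty.of_isPullback sq.flip ‹QuasiCompact i›
  have : SmoothOfRelativeDimension n (Z'.ι ≫ g) := by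
    have : SmoothOfRelativeDimension (0 + n) (Z'.ι ≫ g) := inferInstance
    simpa using this
  have : QuasiSeparated (Z'.ι ≫ g) := inferInstance
  obtain ⟨eΩ⟩ := Groth.OmegaSheaf.nonempty_pullback_iso_of_etale (h := Z'.ι) (g := 𝟙 Y) (f := g)
    (f' := Z'.ι ≫ g) (Category.comp_id _).symm (Groth.OmegaSheaf.isUniversal_dOmega g)
    (Groth.OmegaSheaf.isUniversal_dOmega (Z'.ι ≫ g))
  obtain ⟨hc', hω'⟩ := isCanonicalVia_of_isPullback sq hc eΩ hω
  let f' := (i ⁻¹ᵁ Z').ι ≫ i ≫ g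
  have : QuasiSeparated f' := ‹QuasiSeparated ((i ⁻¹ᵁ Z').ι ≫ i ≫ g)›
  obtain ⟨eC⟩ := Groth.OmegaSheaf.nonempty_conormal_iso_of_section (𝟙 (i ⁻¹ᵁ Z').toScheme)
    (𝟙 (i ⁻¹ᵁ Z').toScheme) (Category.id_comp _)
  have hc₀ : FlatMod.IsFinLocFreeOfRank 0 (Omega.conormal (𝟙 (i ⁻¹ᵁ Z').toScheme)) :=
    LocFree.isFinLocFreeOfRank_of_iso eC.symm
      (LocFree.isFinLocFreeOfRank_pullback _ (Groth.OmegaSheaf.isFinLocFreeOfRank_sheaf _ 0))
  have := KTheory.LocFree.isQCoh (LocFree.isFinLocFree_of_rank hc₀)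
  have := KTheory.LocFree.isQCoh (LocFree.isFinLocFree_of_rank (Groth.OmegaSheaf.isFinLocFreeOfRank_sheaf f' d))
  obtain ⟨e₀⟩ := KTheory.LambdaVb.nonempty_extPow_zero (Omega.conormal (𝟙 (i ⁻¹ᵁ Z').toScheme))
  obtain ⟨β, -⟩ := PicAux.exists_braiding (extPow d (Omega.sheaf f')) (Coh.structureModule _)
  obtain ⟨r, -⟩ := PicAux.exists_leftUnitor (extPow d (Omega.sheaf f'))
  have h₂ : Canon.IsCanonicalVia (𝟙 (i ⁻¹ᵁ Z').toScheme) f' 0 d (extPow d (Omega.sheaf f')) :=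
    ⟨_, _, Groth.LocFree.isExtPow_extPow 0 _, Groth.LocFree.isExtPow_extPow d _,
      ⟨PicGrp.tensorModIso (Iso.refl _) e₀ ≪≫ β ≪≫ r ≪≫ ((Scheme.Modules.pullbackId _).app _).symm⟩⟩
  obtain ⟨e⟩ := nonempty_iso_of_isCanonicalVia (i ∣_ Z') (Z'.ι ≫ g) (𝟙 _) f'
    (by rw [morphismRestrict_ι_assoc, Category.id_comp]) hc' hc₀ hω' h₂
  exact Groth.LocFree.isExtPow_of_iso e.symm (Groth.LocFree.isExtPow_extPow d _)

end Groth.CanonSheaf
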