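import Groth.Prelude.Def_Canon
import Groth.Agent.Duality.FundLocal.SmoothImm
import Groth.Agent.Abvar.PicCalc
import Groth.Agent.S9711
import Groth.Agent.S9372

/-!
# Canonical sheaves do not depend on the factorisation
-/

set_option autoImplicit false
set_option linter.style.haveILetI false

universe u

open CategoryTheory CategoryTheory.Limits AlgebraicGeometry TopologicalSpace

noncomputable section

namespace Groth.CanonSheaf

open Groth.LocFree (extPow)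
open scoped Groth.Abvar.PicCalc
open Groth.Abvar.PicCalc (cls)

variable {X Y Z Z' : Scheme.{u}}

/-- The conormal sheaf of a regular immersion of codimension `c` is locally free of rank `c`. -/
theorem isFinLocFreeOfRank_conormal (i : X ⟶ Z) [QuasiCompact i] {c : ℕ}
    (h : RegImm.IsRegularImmersionOfCodim .regular c i) :
    FlatMod.IsFinLocFreeOfRank c (Omega.conormal i) := by
  have := h.1
  have hfl : FlatMod.IsFinLocFree (Omega.conormal i) := by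
    refine KoszulLCI.isFinLocFree_conormal i fun z => ?_
    obtain ⟨U, hz, hci, rs, -, hseq, hker⟩ := h.2 z
    exact ⟨U, hz, hci, rs, KoszulLCI.seq_h1_of_koszul (KoszulLCI.seq_koszul_of_regular hseq), hker⟩
  refine LocFree.isFinLocFreeOfRank_iff_finrank.2 ⟨hfl, fun z => ?_⟩
  obtain ⟨U, hz, hci, rs, hlen, hseq, hker⟩ := h.2 z
  have hW : OmegaSheaf.IsConormalChart i U.1 :=
    ⟨U.2, Groth.KoszulReg.isAffineOpen_preimage i U.1 U.2, Groth.KoszulReg.surjective_app i U.1 U.2⟩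
  obtain ⟨b⟩ := KoszulLCI.nonempty_basis_conormal i hW rs.get
    (KoszulLCI.seq_h1_of_koszul (KoszulLCI.seq_koszul_of_regular hseq)) (by rw [hker, Set.range_list_get])
  have := KTheory.LocFree.isQCoh hfl
  have hb : PicAux.Basis' (Omega.conormal i) (i ⁻¹ᵁ U.1) b := by
    refine KTheory.LocFree.basis'_of_affine hW.affine_preimage _ ?_
    rw [show (fun q : Fin rs.length → Γ(X, i ⁻¹ᵁ U.1) => ∑ j, q j • b j) = b.equivFun.symm from
      funext fun q => (b.equivFun_symm_apply q).symm]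
    exact b.equivFun.symm.bijective
  exact (LocFree.finrank_stalk_of_basis hb hz).trans hlen

theorem isInvertible_det {E L : X.Modules} {r : ℕ} (h : FlatMod.IsFinLocFreeOfRank r E)
    (hL : ExtPow.IsExtPow r E L) : PicF.IsInvertible L :=
  LocFree.isInvertible_det h hL

/-- `det A ⊗ det C ≅ det B`. -/
theorem nonempty_det_iso {S : ShortComplex X.Modules} (hS : S.ShortExact) {a b : ℕ}
    (h₁ : FlatMod.IsFinLocFreeOfRank a S.X₁) (h₃ : FlatMod.IsFinLocFreeOfRank b S.X₃)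
    {A B C : X.Modules} (hA : ExtPow.IsExtPow a S.X₁ A) (hB : ExtPow.IsExtPow (a + b) S.X₂ B)
    (hC : ExtPow.IsExtPow b S.X₃ C) : Nonempty (CohB1.tensorMod A C ≅ B) := by
  have h₂ := LocFree.isFinLocFreeOfRank_of_shortExact hS h₁ h₃
  have := KTheory.LocFree.isQCoh (LocFree.isFinLocFree_of_rank h₁)
  have := KTheory.LocFree.isQCoh (LocFree.isFinLocFree_of_rank h₂)
  have := KTheory.LocFree.isQCoh (LocFree.isFinLocFree_of_rank h₃)
  obtain ⟨θ, hθ⟩ := VBCurves.DetExact.nonempty_det_iso hS h₁ (LocFree.isFinLocFree_of_rank h₂) h₃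
  have hsrc : FlatMod.IsFinLocFreeOfRank 1 (CohB1.tensorMod (extPow a S.X₁) (extPow b S.X₃)) :=
    LocFree.isFinLocFreeOfRank_tensorMod (by simpa using LocFree.isFinLocFreeOfRank_extPow h₁ a)
      (by simpa using LocFree.isFinLocFreeOfRank_extPow h₃ b)
  have := Duality.FundLocal.isIso_of_epi_rank_one hsrc
    (by simpa using LocFree.isFinLocFreeOfRank_extPow h₂ (a + b)) θ
  obtain ⟨eA⟩ := LocFree.nonempty_iso_extPow hA
  obtain ⟨eB⟩ := LocFree.nonempty_iso_extPow hB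
  obtain ⟨eC⟩ := LocFree.nonempty_iso_extPow hC
  exact ⟨PicGrp.tensorModIso eA.symm eC.symm ≪≫ asIso θ ≪≫ eB⟩

/-- The comparison with the fibre product of two smooth schemes: `det C₁ ⊗ i₂^*Ω₂ ≅ det C₃`. -/
theorem nonempty_det_conormal_iso {Z₁ Z₂ W : Scheme.{u}} {g₁ : Z₁ ⟶ Y} {g₂ : Z₂ ⟶ Y} {p : W ⟶ Z₁} {q : W ⟶ Z₂}
    (sq : IsPullback q p g₂ g₁) [QuasiSeparated g₂] {n : ℕ} [SmoothOfRelativeDimension n g₂] (i : X ⟶ W) (i₁ : X ⟶ Z₁) (i₂ : X ⟶ Z₂)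
    [IsImmersion i] [QuasiCompact i] [IsImmersion i₁] [QuasiCompact i₁] (h₁ : i ≫ p = i₁) (h₂ : i ≫ q = i₂)
    {c : ℕ} (hc : FlatMod.IsFinLocFreeOfRank c (Omega.conormal i₁))
    {D₁ D Ω₂ : _} (hD₁ : ExtPow.IsExtPow c (Omega.conormal i₁) D₁)
    (hΩ₂ : ExtPow.IsExtPow n (Omega.sheaf g₂) Ω₂) (hD : ExtPow.IsExtPow (c + n) (Omega.conormal i) D) :
    FlatMod.IsFinLocFreeOfRank (c + n) (Omega.conormal i) ∧
      Nonempty (CohB1.tensorMod D₁ ((Scheme.Modules.pullback i₂).obj Ω₂) ≅ D) := by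
  have : SmoothOfRelativeDimension n p :=
    (smoothOfRelativeDimension_isStableUnderBaseChange n).of_isPullback sq ‹_›
  have : Smooth p := SmoothOfRelativeDimension.smooth n p
  have : QuasiSeparated p := MorphismProperty.of_isPullback sq ‹_›
  subst h₂
  obtain ⟨ψ, hψ, -⟩ := Groth.OmegaSheaf.existsUnique_isConormalMap (i := i) i₁ p (𝟙 X)
    (by rw [Category.id_comp, h₁])
  obtain ⟨φ, hφ, -⟩ := Groth.OmegaSheaf.existsUnique_isConormalDiff (i := i) (f := p) (d := OmegaSh.dOmega p)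
  obtain ⟨w, hS⟩ := Groth.Agent.S9711.result p i i₁ h₁ (Omega.sheaf p) (OmegaSh.dOmega p)
    (Groth.OmegaSheaf.isUniversal_dOmega p) ψ hψ φ hφ
  have hA : FlatMod.IsFinLocFreeOfRank c ((Scheme.Modules.pullback (𝟙 X)).obj (Omega.conormal i₁)) :=
    LocFree.isFinLocFreeOfRank_pullback _ hc
  have hC : FlatMod.IsFinLocFreeOfRank n ((Scheme.Modules.pullback i).obj (Omega.sheaf p)) :=
    LocFree.isFinLocFreeOfRank_pullback _ (Groth.OmegaSheaf.isFinLocFreeOfRank_sheaf p n)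
  have := KTheory.LocFree.isQCoh (LocFree.isFinLocFree_of_rank hc)
  obtain ⟨eΩ⟩ := Groth.OmegaSheaf.nonempty_pullback_iso sq (Groth.OmegaSheaf.isUniversal_dOmega g₂)
    (Groth.OmegaSheaf.isUniversal_dOmega p)
  have hΩp : ExtPow.IsExtPow n (Omega.sheaf p) ((Scheme.Modules.pullback q).obj Ω₂) :=
    Groth.LocFree.isExtPow_of_iso_left n eΩ (Groth.LocFree.isExtPow_pullback q hΩ₂)
  obtain ⟨e⟩ := nonempty_det_iso hS hA hC
    (Groth.LocFree.isExtPow_pullback (𝟙 X) hD₁) hD (Groth.LocFree.isExtPow_pullback i hΩp)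
  exact ⟨LocFree.isFinLocFreeOfRank_of_shortExact hS hA hC,
    ⟨PicGrp.tensorModIso ((Scheme.Modules.pullbackId X).app D₁).symm
      ((Scheme.Modules.pullbackComp i q).app Ω₂).symm ≪≫ e⟩⟩

/-- Independence of the factorisation. -/
theorem nonempty_iso_of_isCanonicalVia {Z₁ Z₂ : Scheme.{u}} (i₁ : X ⟶ Z₁) (g₁ : Z₁ ⟶ Y) (i₂ : X ⟶ Z₂)
    (g₂ : Z₂ ⟶ Y) [IsImmersion i₁] [IsImmersion i₂] [QuasiCompact i₁] [QuasiCompact i₂]
    [QuasiSeparated g₁] [QuasiSeparated g₂] (h : i₁ ≫ g₁ = i₂ ≫ g₂) {c₁ n₁ c₂ n₂ : ℕ}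
    [SmoothOfRelativeDimension n₁ g₁] [SmoothOfRelativeDimension n₂ g₂]
    (hc₁ : FlatMod.IsFinLocFreeOfRank c₁ (Omega.conormal i₁))
    (hc₂ : FlatMod.IsFinLocFreeOfRank c₂ (Omega.conormal i₂))
    {ω₁ ω₂ : X.Modules} (hω₁ : Canon.IsCanonicalVia i₁ g₁ c₁ n₁ ω₁)
    (hω₂ : Canon.IsCanonicalVia i₂ g₂ c₂ n₂ ω₂) : Nonempty (ω₁ ≅ ω₂) := by
  obtain ⟨D₁, Ω₁, hD₁, hΩ₁, ⟨e₁⟩⟩ := hω₁
  obtain ⟨D₂, Ω₂, hD₂, hΩ₂, ⟨e₂⟩⟩ := hω₂
  let i : X ⟶ pullback g₂ g₁ := pullback.lift i₂ i₁ h.symm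
  have hi₁ : i ≫ pullback.snd g₂ g₁ = i₁ := pullback.lift_snd _ _ _
  have hi₂ : i ≫ pullback.fst g₂ g₁ = i₂ := pullback.lift_fst _ _ _
  have : IsImmersion (i ≫ pullback.snd g₂ g₁) := by rw [hi₁]; infer_instance
  have : IsImmersion i := IsImmersion.of_comp i (pullback.snd g₂ g₁)
  have : QuasiCompact (i ≫ pullback.snd g₂ g₁) := by rw [hi₁]; infer_instance
  have : QuasiCompact i := QuasiCompact.of_comp i (pullback.snd g₂ g₁)
  have sq := IsPullback.of_hasPullback g₂ g₁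
  have := KTheory.LocFree.isQCoh (LocFree.isFinLocFree_of_rank hc₁)
  have := KTheory.LocFree.isQCoh (LocFree.isFinLocFree_of_rank hc₂)
  have hr₁ : FlatMod.IsFinLocFreeOfRank (c₁ + n₂) (Omega.conormal i) :=
    (nonempty_det_conormal_iso sq i i₁ i₂ hi₁ hi₂ hc₁ hD₁ hΩ₂
      (Groth.LocFree.isExtPow_extPow (c₁ + n₂) _)).1
  have hr₂ : FlatMod.IsFinLocFreeOfRank (c₂ + n₁) (Omega.conormal i) :=
    (nonempty_det_conormal_iso sq.flip i i₂ i₁ hi₂ hi₁ hc₂ hD₂ hΩ₁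
      (Groth.LocFree.isExtPow_extPow (c₂ + n₁) _)).1
  rcases isEmpty_or_nonempty X with hX | ⟨⟨x⟩⟩
  · have hz : ∀ M : X.Modules, IsZero M := fun M =>
      (QCohMod.isZero_iff_stalk M).2 fun x => (IsEmpty.false x).elim
    exact ⟨(hz _).iso (hz _)⟩
  have heq : c₂ + n₁ = c₁ + n₂ :=
    (LocFree.finrank_stalk hr₂ x).symm.trans (LocFree.finrank_stalk hr₁ x)
  have := KTheory.LocFree.isQCoh (LocFree.isFinLocFree_of_rank hr₁)
  obtain ⟨D, -, hD⟩ := Groth.LocFree.exists_isExtPow (c₁ + n₂) (Omega.conormal i)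
  obtain ⟨a⟩ := (nonempty_det_conormal_iso sq i i₁ i₂ hi₁ hi₂ hc₁ hD₁ hΩ₂ hD).2
  obtain ⟨b⟩ := (nonempty_det_conormal_iso sq.flip i i₂ i₁ hi₂ hi₁ hc₂ hD₂ hΩ₁
    (by rw [heq]; exact hD)).2
  have hI₁ := isInvertible_det hc₁ hD₁
  have hI₂ := isInvertible_det hc₂ hD₂
  have hJ₁ : PicF.IsInvertible ((Scheme.Modules.pullback i₁).obj Ω₁) :=
    PicLoc.isInvertible_pullback i₁ (isInvertible_det (Groth.OmegaSheaf.isFinLocFreeOfRank_sheaf g₁ n₁) hΩ₁)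
  have hJ₂ : PicF.IsInvertible ((Scheme.Modules.pullback i₂).obj Ω₂) :=
    PicLoc.isInvertible_pullback i₂ (isInvertible_det (Groth.OmegaSheaf.isFinLocFreeOfRank_sheaf g₂ n₂) hΩ₂)
  obtain ⟨β₁, -⟩ := PicAux.exists_braiding ω₁ D₁
  obtain ⟨β₂, -⟩ := PicAux.exists_braiding ω₂ D₂
  have hω₁' : PicF.IsInvertible ω₁ := Abvar.PicCalc.isInvertible_of_tensorMod hI₁
    (Abvar.PicCalc.isInvertible_of_iso hJ₁ (e₁.symm ≪≫ β₁))
  have hω₂' : PicF.IsInvertible ω₂ := Abvar.PicCalc.isInvertible_of_tensorMod hI₂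
    (Abvar.PicCalc.isInvertible_of_iso hJ₂ (e₂.symm ≪≫ β₂))
  have q₁ := (Abvar.PicCalc.nonempty_iso_iff (Abvar.PicCalc.isInvertible_tensorMod hω₁' hI₁) hJ₁).1 ⟨e₁⟩
  have q₂ := (Abvar.PicCalc.nonempty_iso_iff (Abvar.PicCalc.isInvertible_tensorMod hω₂' hI₂) hJ₂).1 ⟨e₂⟩
  have q₃ := (Abvar.PicCalc.nonempty_iso_iff (Abvar.PicCalc.isInvertible_tensorMod hI₁ hJ₂)
    (Abvar.PicCalc.isInvertible_tensorMod hI₂ hJ₁)).1 ⟨a ≪≫ b.symm⟩
  rw [Abvar.PicCalc.cls_tensorMod hω₁' hI₁] at q₁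
  rw [Abvar.PicCalc.cls_tensorMod hω₂' hI₂] at q₂
  rw [Abvar.PicCalc.cls_tensorMod hI₁ hJ₂, Abvar.PicCalc.cls_tensorMod hI₂ hJ₁, ← q₁, ← q₂] at q₃
  refine (Abvar.PicCalc.nonempty_iso_iff hω₁' hω₂').2 (mul_right_cancel (b := cls hI₁ * cls hI₂) ?_)
  calc cls hω₁' * (cls hI₁ * cls hI₂) = cls hI₂ * (cls hω₁' * cls hI₁) := by ac_rfl
    _ = cls hI₁ * (cls hω₂' * cls hI₂) := q₃.symm
    _ = cls hω₂' * (cls hI₁ * cls hI₂) := by ac_rfl

end Groth.CanonSheaf
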