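import Groth.Agent.Misc15.ProjPts
import Groth.Agent.Chow.AffineImm
import Groth.Agent.Variety2.ProjBasics
import Groth.Agent.GrassRep.Free
import Groth.Agent.Misc13.ProjFactor

/-!
# Projective space over a base: functoriality and relative dimension
-/

set_option autoImplicit false
set_option backward.isDefEq.respectTransparency.types false

universe u

open CategoryTheory CategoryTheory.Limits AlgebraicGeometry

noncomputable section

namespace Groth.CanonSheaf

open Groth.Misc15.ProjPts

theorem smoothOfRelativeDimension_toSpec (n : ℕ) :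
    SmoothOfRelativeDimension n (CohB1.ProjSpace.toSpec n Z.{u}) := by
  let 𝒰 : (CohB1.ProjSpace n Z.{u}).OpenCover := Scheme.Cover.mkOfCovers (Fin (n + 1)) _
    (fun i => chartPt i Z.{u}) (fun x => by
      have hx : x ∈ (⨆ i : Fin (n + 1), D.{u} i) := by rw [iSup_basicOpen_X]; trivial
      obtain ⟨i, hi⟩ := TopologicalSpace.Opens.mem_iSup.mp hx
      have h : x ∈ Set.range (chartPt i Z.{u}) := by rw [range_chartPt]; exact hi
      obtain ⟨y, hy⟩ := h
      exact ⟨i, y, hy⟩) fun i => inferInstance
  refine IsZariskiLocalAtSource.of_openCover (P := @SmoothOfRelativeDimension n) 𝒰 fun i => ?_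
  have h : 𝒰.f i ≫ CohB1.ProjSpace.toSpec n Z.{u} =
      Spec.map (CommRingCat.ofHom (MvPolynomial.C : Z.{u} →+* MvPolynomial (Fin n) Z.{u})) :=
    specULiftZIsTerminal.hom_ext _ _
  rw [h]
  change SmoothOfRelativeDimension n
    (Spec.map (CommRingCat.ofHom (MvPolynomial.C : Z.{u} →+* MvPolynomial (Fin n) Z.{u})))
  rw [HasRingHomProperty.Spec_iff (P := @SmoothOfRelativeDimension n), CommRingCat.hom_ofHom,
    ← MvPolynomial.algebraMap_eq]
  have h0 := Groth.GrassRep.standardSmooth_mvPolynomial (R := Z.{u}) (ULift.{u} (Fin n))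
  rw [Nat.card_ulift, Nat.card_fin] at h0
  have h1 : Algebra.IsStandardSmoothOfRelativeDimension n Z.{u} (MvPolynomial (Fin n) Z.{u}) :=
    Algebra.IsStandardSmoothOfRelativeDimension.of_algEquiv (n := n)
      (MvPolynomial.renameEquiv Z.{u} Equiv.ulift)
  exact RingHom.locally_of RingHom.isStandardSmoothOfRelativeDimension_respectsIso _
    ((RingHom.isStandardSmoothOfRelativeDimension_algebraMap n).mpr h1)

instance smoothOfRelativeDimension_toBase (n : ℕ) (S : Scheme.{u}) :
    SmoothOfRelativeDimension n (CohB1.ProjSpaceOver.toBase n S) :=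
  (smoothOfRelativeDimension_isStableUnderBaseChange n).of_isPullback
    (IsPullback.of_hasPullback (CohB1.ProjSpace.toSpec n Z.{u}) (specULiftZIsTerminal.from S))
    (smoothOfRelativeDimension_toSpec n)

/-- Projective space is functorial in the base. -/
def projMap (n : ℕ) {A B : Scheme.{u}} (v : A ⟶ B) : CohB1.ProjSpaceOver n A ⟶ CohB1.ProjSpaceOver n B :=
  pullback.lift (pullback.fst _ _) (CohB1.ProjSpaceOver.toBase n A ≫ v)
    (pullback.condition.trans (by
      rw [Category.assoc]
      exact congrArg (CohB1.ProjSpaceOver.toBase n A ≫ ·) (specULiftZIsTerminal.hom_ext _ _)))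

theorem isPullback_projMap (n : ℕ) {A B : Scheme.{u}} (v : A ⟶ B) :
    IsPullback (projMap n v) (CohB1.ProjSpaceOver.toBase n A) (CohB1.ProjSpaceOver.toBase n B) v := by
  have hv : v ≫ specULiftZIsTerminal.from B = specULiftZIsTerminal.from A := specULiftZIsTerminal.hom_ext _ _
  have hr : IsPullback (projMap n v ≫ pullback.fst (CohB1.ProjSpace.toSpec n Z.{u}) (specULiftZIsTerminal.from B))
      (CohB1.ProjSpaceOver.toBase n A) (CohB1.ProjSpace.toSpec n Z.{u}) (v ≫ specULiftZIsTerminal.from B) := by
    rw [hv]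
    erw [pullback.lift_fst]
    exact IsPullback.of_hasPullback _ _
  exact IsPullback.of_right hr (pullback.lift_snd _ _ _)
    (IsPullback.of_hasPullback (CohB1.ProjSpace.toSpec n Z.{u}) (specULiftZIsTerminal.from B))

end Groth.CanonSheaf
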