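import Groth.Agent.CanonSheaf.FlatCase
import Groth.Agent.CanonSheaf.Proj
import Groth.Agent.OmegaSheaf.DiffProduct
import Groth.Agent.KoszulLCI.ConormalShortExact
import Groth.Agent.KoszulLCI.SchemeDescent
import Groth.Agent.PropsBasic2.QcLocNoeth

/-!
# The canonical sheaf of a composite
-/

set_option autoImplicit false
set_option linter.style.haveILetI false

universe u

open CategoryTheory CategoryTheory.Limits AlgebraicGeometry TopologicalSpace

noncomputable section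

namespace Groth.CanonSheaf

open Groth.LocFree (extPow)
open scoped Groth.Abvar.PicCalc
open Groth.Abvar.PicCalc (cls)

variable {X Y Z A B Q : Scheme.{u}}

/-- The differentials of a fibre product: determinant. -/
theorem nonempty_det_omega_prod {a : A ⟶ Z} {b : B ⟶ Z} {p : Q ⟶ A} {q : Q ⟶ B} {h : Q ⟶ Z}
    (sq : IsPullback p q a b) (hh : p ≫ a = h) [QuasiSeparated a] [QuasiSeparated b] [QuasiSeparated h]
    {m n : ℕ} [SmoothOfRelativeDimension m a] [SmoothOfRelativeDimension n b]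
    {DA : A.Modules} {DB : B.Modules} {DH : Q.Modules} (hA : ExtPow.IsExtPow m (Omega.sheaf a) DA)
    (hB : ExtPow.IsExtPow n (Omega.sheaf b) DB) (hH : ExtPow.IsExtPow (m + n) (Omega.sheaf h) DH) :
    Nonempty (CohB1.tensorMod ((Scheme.Modules.pullback p).obj DA) ((Scheme.Modules.pullback q).obj DB) ≅ DH) := by
  have hwq : q ≫ b = h := sq.w.symm.trans hh
  have hX := Groth.OmegaSheaf.isUniversal_dOmega a
  have hY := Groth.OmegaSheaf.isUniversal_dOmega b
  have hZu := Groth.OmegaSheaf.isUniversal_dOmega h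
  obtain ⟨c₁, hc₁, -⟩ := Groth.OmegaSheaf.existsUnique_isDiffCompat (h := p) (g := 𝟙 Z)
    (d₂ := OmegaSh.dOmega h) hX (by rw [Category.comp_id, hh])
  obtain ⟨c₂, hc₂, -⟩ := Groth.OmegaSheaf.existsUnique_isDiffCompat (h := q) (g := 𝟙 Z)
    (d₂ := OmegaSh.dOmega h) hY (by rw [Category.comp_id, hwq])
  have := Groth.OmegaSheaf.isIso_coprod_desc hh hwq sq hX hY hZu hc₁ hc₂
  let M := (Scheme.Modules.pullback p).obj (Omega.sheaf a)
  let N := (Scheme.Modules.pullback q).obj (Omega.sheaf b)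
  have hM : FlatMod.IsFinLocFreeOfRank m M :=
    LocFree.isFinLocFreeOfRank_pullback p (Groth.OmegaSheaf.isFinLocFreeOfRank_sheaf a m)
  have hN : FlatMod.IsFinLocFreeOfRank n N :=
    LocFree.isFinLocFreeOfRank_pullback q (Groth.OmegaSheaf.isFinLocFreeOfRank_sheaf b n)
  let e : M ⊞ N ≅ Omega.sheaf h := biprod.isoCoprod M N ≪≫ asIso (coprod.desc c₁ c₂)
  have := KTheory.LocFree.isQCoh (LocFree.isFinLocFree_of_rank (Groth.OmegaSheaf.isFinLocFreeOfRank_sheaf a m))
  have := KTheory.LocFree.isQCoh (LocFree.isFinLocFree_of_rank (Groth.OmegaSheaf.isFinLocFreeOfRank_sheaf b n))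
  have := KTheory.LocFree.isQCoh (LocFree.isFinLocFree_of_rank
    (LocFree.isFinLocFreeOfRank_of_iso e (LocFree.isFinLocFreeOfRank_biprod hM hN)))
  exact nonempty_det_iso (S := ShortComplex.mk (biprod.inl : M ⟶ M ⊞ N) biprod.snd (by simp))
    (ShortComplex.Splitting.shortExact { r := biprod.fst, s := biprod.inr }) hM hN
    (Groth.LocFree.isExtPow_pullback p hA) (Groth.LocFree.isExtPow_of_iso_left _ e.symm hH)
    (Groth.LocFree.isExtPow_pullback q hB)

theorem morLCI_of_isCanonical {f : X ⟶ Y} {ω : X.Modules} (h : Canon.IsCanonical f ω) :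
    KoszulLCI.MorLCI f := by
  obtain ⟨W, i, g, c, n, rfl, hi, hg, hqc, -, -⟩ := h
  have : Smooth g := SmoothOfRelativeDimension.smooth n g
  have : MorphismProperty.IsStableUnderComposition (KoszulLCI.MorLCI.{u}) :=
    HasRingHomProperty.stableUnderComposition KoszulLCI.ringLCI_stableUnderComposition
  exact MorphismProperty.comp_mem _ i g
    (KoszulLCI.morLCI_of_isRegularImmersion i (KoszulLCI.isRegularImmersion_of_isRegularImmersion_regular
      .koszul i ⟨hi.1, fun z => by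
        obtain ⟨U, hz, hci, rs, -, hs, hk⟩ := hi.2 z
        exact ⟨U, hz, hci, rs, hs, hk⟩⟩))
    (KoszulLCI.morLCI_of_smooth g)

/-- The canonical sheaf of a composite of a quasi-projective morphism and another one. -/
theorem nonempty_iso_comp {f : X ⟶ Y} {g : Y ⟶ Z} [IsLocallyNoetherian Y] {m : ℕ}
    (j : X ⟶ CohB1.ProjSpaceOver m Y) [IsImmersion j] (hj : j ≫ CohB1.ProjSpaceOver.toBase m Y = f)
    {ω₁ : X.Modules} {ω₂ : Y.Modules} {ω₃ : X.Modules} (h₁ : Canon.IsCanonical f ω₁)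
    (h₂ : Canon.IsCanonical g ω₂) (h₃ : Canon.IsCanonical (f ≫ g) ω₃) :
    Nonempty (ω₃ ≅ CohB1.tensorMod ω₁ ((Scheme.Modules.pullback f).obj ω₂)) := by
  rcases isEmpty_or_nonempty X with hX | ⟨⟨x⟩⟩
  · have hz : ∀ M : X.Modules, IsZero M := fun M =>
      (QCohMod.isZero_iff_stalk M).2 fun x => (IsEmpty.false x).elim
    exact ⟨(hz _).iso (hz _)⟩
  have hlci := morLCI_of_isCanonical h₁
  obtain ⟨W₁, i₁, g₁, c₁, n₁, e₁, hi₁, hg₁, hqc₁, hqs₁, hv₁⟩ := h₁
  obtain ⟨W₂, i₂, g₂, c₂, n₂, e₂, hi₂, hg₂, hqc₂, hqs₂, hv₂⟩ := h₂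
  obtain ⟨W₃, i₃, g₃, c₃, n₃, e₃, hi₃, hg₃, hqc₃, hqs₃, hv₃⟩ := h₃
  subst e₂
  subst hj
  have := hi₁.1
  have := hi₂.1
  have := hi₃.1
  let π := CohB1.ProjSpaceOver.toBase m Y
  have : Smooth π := SmoothOfRelativeDimension.smooth m π
  have : IsLocallyNoetherian (CohB1.ProjSpaceOver m Y) := LocallyOfFiniteType.isLocallyNoetherian π
  have : QuasiSeparated π := inferInstanceAs (QuasiSeparated (pullback.snd _ _))
  have : QuasiCompact j := Groth.PropsBasic2.quasiCompact_of_isEmbedding j j.isEmbedding fun y => by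
    obtain ⟨U, hU, hyU, -⟩ := exists_isAffineOpen_mem_and_subset (X := CohB1.ProjSpaceOver m Y)
      (show y ∈ (⊤ : (CohB1.ProjSpaceOver m Y).Opens) from trivial)
    have := IsLocallyNoetherian.component_noetherian ⟨U, hU⟩
    exact ⟨U, U.2.mem_nhds hyU, noetherianSpace_of_isAffineOpen U hU⟩
  -- the immersion into projective space
  let W := pullback g₁ π
  let l : X ⟶ W := pullback.lift i₁ j e₁
  have hl₁ : l ≫ pullback.fst g₁ π = i₁ := pullback.lift_fst _ _ _
  have hl₂ : l ≫ pullback.snd g₁ π = j := pullback.lift_snd _ _ _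
  have : IsImmersion (l ≫ pullback.fst g₁ π) := by rw [hl₁]; infer_instance
  have : IsImmersion l := IsImmersion.of_comp l (pullback.fst g₁ π)
  have : QuasiCompact (l ≫ pullback.fst g₁ π) := by rw [hl₁]; infer_instance
  have : QuasiCompact l := QuasiCompact.of_comp l (pullback.fst g₁ π)
  have hsqW := (IsPullback.of_hasPullback g₁ π).flip
  have hc₁ := isFinLocFreeOfRank_conormal i₁ hi₁
  have := KTheory.LocFree.isQCoh (LocFree.isFinLocFree_of_rank hc₁)
  have := KTheory.LocFree.isQCoh (LocFree.isFinLocFree_of_rank (Groth.OmegaSheaf.isFinLocFreeOfRank_sheaf π m))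
  have hC : FlatMod.IsFinLocFreeOfRank (c₁ + m) (Omega.conormal l) :=
    (nonempty_det_conormal_iso hsqW l i₁ j hl₁ hl₂ hc₁ (Groth.LocFree.isExtPow_extPow c₁ _)
      (Groth.LocFree.isExtPow_extPow m _) (Groth.LocFree.isExtPow_extPow (c₁ + m) _)).1
  have hjlci : KoszulLCI.MorLCI j := KoszulLCI.morLCI_of_comp_smooth j π hlci
  have hj1 : ∀ z : X, RegImm.IsRegularImmersionAt .h1 j z := fun z => by
    obtain ⟨U, hz, hci, rs, hs, hk⟩ := (KoszulLCI.isRegularImmersion_of_morLCI j hjlci).2 z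
    exact ⟨U, hz, hci, rs, KoszulLCI.seq_h1_of_koszul hs, hk⟩
  have hjfl := KoszulLCI.isFinLocFree_conormal j hj1
  obtain ⟨c', hc'⟩ : ∃ c', FlatMod.IsFinLocFreeOfRank c' (Omega.conormal j) := by
    let p := pullback.snd g₁ π
    have : SmoothOfRelativeDimension n₁ p :=
      (smoothOfRelativeDimension_isStableUnderBaseChange n₁).of_isPullback (IsPullback.of_hasPullback g₁ π) hg₁
    have : Smooth p := SmoothOfRelativeDimension.smooth n₁ p
    have : QuasiSeparated p := MorphismProperty.of_isPullback (IsPullback.of_hasPullback g₁ π) hqs₁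
    obtain ⟨ψ, hψ, -⟩ := Groth.OmegaSheaf.existsUnique_isConormalMap (i := l) j p (𝟙 X)
      (by rw [Category.id_comp, hl₂])
    obtain ⟨φ, hφ, -⟩ := Groth.OmegaSheaf.existsUnique_isConormalDiff (i := l) (f := p) (d := OmegaSh.dOmega p)
    obtain ⟨w, hS⟩ := Groth.Agent.S9711.result p l j hl₂ (Omega.sheaf p) (OmegaSh.dOmega p)
      (Groth.OmegaSheaf.isUniversal_dOmega p) ψ hψ φ hφ
    have h3 : FlatMod.IsFinLocFreeOfRank n₁ ((Scheme.Modules.pullback l).obj (Omega.sheaf p)) :=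
      LocFree.isFinLocFreeOfRank_pullback _ (Groth.OmegaSheaf.isFinLocFreeOfRank_sheaf p n₁)
    let eid := (Scheme.Modules.pullbackId X).app (Omega.conormal j)
    have hfl : FlatMod.IsFinLocFree ((Scheme.Modules.pullback (𝟙 X)).obj (Omega.conormal j)) :=
      KTheory.LocFree.isFinLocFree_of_iso eid.symm hjfl
    have := LocFree.finrank_stalk_add hS hfl (LocFree.isFinLocFree_of_rank h3) x
    rw [LocFree.finrank_stalk hC x, LocFree.finrank_stalk h3 x] at this
    have hle : n₁ ≤ c₁ + m := by omega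
    refine ⟨c₁ + m - n₁, LocFree.isFinLocFreeOfRank_of_iso eid ?_⟩
    exact LocFree.isFinLocFreeOfRank_left hS (b := n₁) (by rw [Nat.sub_add_cancel hle]; exact hC) h3
  have := KTheory.LocFree.isQCoh (LocFree.isFinLocFree_of_rank hc')
  -- the extension to the smooth scheme over `Z`
  let k := projMap m i₂
  let tW := CohB1.ProjSpaceOver.toBase m W₂
  let tZ := CohB1.ProjSpaceOver.toBase m Z
  let h := tW ≫ g₂
  have sqk : IsPullback k π tW i₂ := isPullback_projMap m i₂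
  have : IsImmersion k := MorphismProperty.of_isPullback sqk.flip hi₂.1
  have : QuasiCompact k := MorphismProperty.of_isPullback sqk.flip hqc₂
  have : Smooth tW := SmoothOfRelativeDimension.smooth m tW
  have : QuasiSeparated tW := inferInstanceAs (QuasiSeparated (pullback.snd _ _))
  have : QuasiSeparated tZ := inferInstanceAs (QuasiSeparated (pullback.snd _ _))
  have : QuasiSeparated h := inferInstance
  have : SmoothOfRelativeDimension (m + n₂) h := inferInstanceAs (SmoothOfRelativeDimension (m + n₂) (tW ≫ g₂))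
  have hc₂ := isFinLocFreeOfRank_conormal i₂ hi₂
  have := KTheory.LocFree.isQCoh (LocFree.isFinLocFree_of_rank hc₂)
  obtain ⟨φk, hφk, -⟩ := Groth.OmegaSheaf.existsUnique_isConormalMap (i := k) i₂ tW π sqk.w.symm
  have := (Groth.Agent.S9372.result k i₂ tW π sqk φk hφk).2 inferInstance
  let ek := asIso φk
  have hck : FlatMod.IsFinLocFreeOfRank c₂ (Omega.conormal k) :=
    LocFree.isFinLocFreeOfRank_of_iso ek (LocFree.isFinLocFreeOfRank_pullback π hc₂)
  have := KTheory.LocFree.isQCoh (LocFree.isFinLocFree_of_rank hck)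
  obtain ⟨a, ha, -⟩ := Groth.OmegaSheaf.existsUnique_isConormalMap (i := j ≫ k) k (𝟙 _) j
    (Category.comp_id _).symm
  obtain ⟨b, hb, -⟩ := Groth.OmegaSheaf.existsUnique_isConormalMap (i := j) (j ≫ k) k (𝟙 X)
    (Category.id_comp _)
  obtain ⟨w, hS⟩ := KoszulLCI.conormal_shortExact j k ha hb hj1
  have hA : FlatMod.IsFinLocFreeOfRank c₂ ((Scheme.Modules.pullback j).obj (Omega.conormal k)) :=
    LocFree.isFinLocFreeOfRank_pullback j hck
  have hjk : FlatMod.IsFinLocFreeOfRank (c₂ + c') (Omega.conormal (j ≫ k)) :=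
    LocFree.isFinLocFreeOfRank_of_shortExact hS hA hc'
  have := KTheory.LocFree.isQCoh (LocFree.isFinLocFree_of_rank hjk)
  -- classes
  obtain ⟨D₂, Ω₂, hD₂, hΩ₂, ⟨f₂⟩⟩ := hv₂
  have hω₂ := isInvertible_of_isCanonicalVia (i := i₂) (g := g₂) hc₂ ⟨D₂, Ω₂, hD₂, hΩ₂, ⟨f₂⟩⟩
  have hI₂ := isInvertible_det hc₂ hD₂
  have hK₂ := isInvertible_det (Groth.OmegaSheaf.isFinLocFreeOfRank_sheaf g₂ n₂) hΩ₂
  have := KTheory.LocFree.isQCoh (LocFree.isFinLocFree_of_rank (Groth.OmegaSheaf.isFinLocFreeOfRank_sheaf g₂ n₂))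
  have := KTheory.LocFree.isQCoh (LocFree.isFinLocFree_of_rank (Groth.OmegaSheaf.isFinLocFreeOfRank_sheaf tZ m))
  have := KTheory.LocFree.isQCoh (LocFree.isFinLocFree_of_rank (Groth.OmegaSheaf.isFinLocFreeOfRank_sheaf h (m + n₂)))
  have sqQ : IsPullback (projMap m g₂) tW tZ g₂ := isPullback_projMap m g₂
  obtain ⟨DT, -, hDT⟩ := Groth.LocFree.exists_isExtPow m (Omega.sheaf tZ)
  obtain ⟨DH, -, hDH⟩ := Groth.LocFree.exists_isExtPow (m + n₂) (Omega.sheaf h)
  obtain ⟨eH⟩ := nonempty_det_omega_prod sqQ sqQ.w hDT hΩ₂ hDH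
  have hKT := isInvertible_det (Groth.OmegaSheaf.isFinLocFreeOfRank_sheaf tZ m) hDT
  have hKH := isInvertible_det (Groth.OmegaSheaf.isFinLocFreeOfRank_sheaf h (m + n₂)) hDH
  let DP := (Scheme.Modules.pullback (k ≫ projMap m g₂)).obj DT
  have sqP : IsPullback (k ≫ projMap m g₂) π tZ (i₂ ≫ g₂) := sqk.paste_horiz sqQ
  obtain ⟨eΩ⟩ := Groth.OmegaSheaf.nonempty_pullback_iso sqP (Groth.OmegaSheaf.isUniversal_dOmega tZ)
    (Groth.OmegaSheaf.isUniversal_dOmega π)
  have hDP : ExtPow.IsExtPow m (Omega.sheaf π) DP :=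
    Groth.LocFree.isExtPow_of_iso_left m eΩ (Groth.LocFree.isExtPow_pullback _ hDT)
  have hKP : PicF.IsInvertible DP := PicLoc.isInvertible_pullback _ hKT
  obtain ⟨Dj, -, hDj⟩ := Groth.LocFree.exists_isExtPow c' (Omega.conormal j)
  obtain ⟨Djk, -, hDjk⟩ := Groth.LocFree.exists_isExtPow (c₂ + c') (Omega.conormal (j ≫ k))
  have hDk : ExtPow.IsExtPow c₂ (Omega.conormal k) ((Scheme.Modules.pullback π).obj D₂) := by
    have := KTheory.LocFree.isQCoh (LocFree.isFinLocFree_of_rank (LocFree.isFinLocFreeOfRank_pullback π hc₂))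
    exact Groth.LocFree.isExtPow_of_iso_left c₂ ek (Groth.LocFree.isExtPow_pullback π hD₂)
  obtain ⟨ejk⟩ := nonempty_det_iso hS hA hc' (Groth.LocFree.isExtPow_pullback j hDk) hDjk hDj
  have hIj := isInvertible_det hc' hDj
  have hIjk := isInvertible_det hjk hDjk
  -- `ω₁` through `j`
  obtain ⟨Dj', hDj'inv, ⟨pj⟩⟩ := PicAux.exists_inverse hIj
  have hKJ : PicF.IsInvertible ((Scheme.Modules.pullback j).obj DP) := PicLoc.isInvertible_pullback j hKP
  let ω' := CohB1.tensorMod ((Scheme.Modules.pullback j).obj DP) Dj'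
  have hω' : PicF.IsInvertible ω' := Abvar.PicCalc.isInvertible_tensorMod hKJ hDj'inv
  have hp : cls hDj'inv * cls hIj = 1 := by
    rw [← Abvar.PicCalc.cls_tensorMod hDj'inv hIj]
    exact (Abvar.PicCalc.nonempty_iso_structure_iff _).1 ⟨pj⟩
  have hvj : Canon.IsCanonicalVia j π c' m ω' := ⟨Dj, DP, hDj, hDP,
    (Abvar.PicCalc.nonempty_iso_iff (Abvar.PicCalc.isInvertible_tensorMod hω' hIj) hKJ).2 (by
      rw [Abvar.PicCalc.cls_tensorMod hω' hIj, Abvar.PicCalc.cls_tensorMod hKJ hDj'inv, mul_assoc, hp,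
        mul_one])⟩
  obtain ⟨eω⟩ := nonempty_iso_of_isCanonicalVia i₁ g₁ j π e₁ hc₁ hc' hv₁ hvj
  have hω₁ : PicF.IsInvertible ω₁ := Abvar.PicCalc.isInvertible_of_iso hω' eω.symm
  have hω₂' := PicLoc.isInvertible_pullback (j ≫ π) hω₂
  let ω := CohB1.tensorMod ω₁ ((Scheme.Modules.pullback (j ≫ π)).obj ω₂)
  have hω : PicF.IsInvertible ω := Abvar.PicCalc.isInvertible_tensorMod hω₁ hω₂'
  -- the equations
  have q₁ : cls hω₁ * cls hIj = Abvar.PicCalc.pull (j ≫ k ≫ projMap m g₂) (cls hKT) := by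
    rw [(Abvar.PicCalc.nonempty_iso_iff hω₁ hω').1 ⟨eω⟩, Abvar.PicCalc.cls_tensorMod hKJ hDj'inv, mul_assoc, hp,
      mul_one, ← Abvar.PicCalc.pull_cls j hKP, ← Abvar.PicCalc.pull_cls (k ≫ projMap m g₂) hKT,
      ← Abvar.PicCalc.pull_comp]
  have q₂ : cls hω₂ * cls hI₂ = Abvar.PicCalc.pull i₂ (cls hK₂) := by
    rw [← Abvar.PicCalc.cls_tensorMod hω₂ hI₂, Abvar.PicCalc.pull_cls i₂ hK₂]
    exact (Abvar.PicCalc.nonempty_iso_iff _ _).1 ⟨f₂⟩
  have q₃ : Abvar.PicCalc.pull (j ≫ π) (cls hI₂) * cls hIj = cls hIjk := by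
    rw [Abvar.PicCalc.pull_comp, Abvar.PicCalc.pull_cls π hI₂, Abvar.PicCalc.pull_cls j,
      ← Abvar.PicCalc.cls_tensorMod (PicLoc.isInvertible_pullback j (PicLoc.isInvertible_pullback π hI₂)) hIj]
    exact (Abvar.PicCalc.nonempty_iso_iff _ _).1 ⟨ejk⟩
  have q₄ : Abvar.PicCalc.pull (projMap m g₂) (cls hKT) * Abvar.PicCalc.pull tW (cls hK₂) = cls hKH := by
    rw [Abvar.PicCalc.pull_cls (projMap m g₂) hKT, Abvar.PicCalc.pull_cls tW hK₂,
      ← Abvar.PicCalc.cls_tensorMod (PicLoc.isInvertible_pullback _ hKT) (PicLoc.isInvertible_pullback _ hK₂)]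
    exact (Abvar.PicCalc.nonempty_iso_iff _ _).1 ⟨eH⟩
  have hvω : Canon.IsCanonicalVia (j ≫ k) h (c₂ + c') (m + n₂) ω := ⟨Djk, DH, hDjk, hDH,
    (Abvar.PicCalc.nonempty_iso_iff (Abvar.PicCalc.isInvertible_tensorMod hω hIjk)
      (PicLoc.isInvertible_pullback (j ≫ k) hKH)).2 (by
      rw [Abvar.PicCalc.cls_tensorMod hω hIjk, Abvar.PicCalc.cls_tensorMod hω₁ hω₂',
        ← Abvar.PicCalc.pull_cls (j ≫ π) hω₂, ← Abvar.PicCalc.pull_cls (j ≫ k) hKH, ← q₄, map_mul,
        ← Abvar.PicCalc.pull_comp, ← Abvar.PicCalc.pull_comp, Category.assoc, Category.assoc, sqk.w, ← q₁,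
        show j ≫ π ≫ i₂ = (j ≫ π) ≫ i₂ from (Category.assoc _ _ _).symm,
        Abvar.PicCalc.pull_comp (j ≫ π) i₂, ← q₂, map_mul, ← q₃]
      ac_rfl)⟩
  have hcomp : i₃ ≫ g₃ = (j ≫ k) ≫ h := by
    simp only [h, Category.assoc]
    rw [e₃, ← Category.assoc k tW g₂, sqk.w, Category.assoc, Category.assoc]
  exact nonempty_iso_of_isCanonicalVia i₃ g₃ (j ≫ k) h hcomp (isFinLocFreeOfRank_conormal i₃ hi₃) hjk hv₃ hvω

end Groth.CanonSheaf
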