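import Groth.Agent.CanonSheaf.BaseChange
import Groth.Agent.KoszulLCI.RelBaseChange

/-!
# Base change of a regular immersion flat over the base: the conormal sheaf
-/

set_option autoImplicit false
set_option linter.style.haveILetI false

universe u

open CategoryTheory CategoryTheory.Limits AlgebraicGeometry TopologicalSpace

noncomputable section

namespace Groth.CanonSheaf

variable {X Z X' Z' S S' : Scheme.{u}}

/-- An epimorphism between locally free modules of the same rank is an isomorphism. -/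
theorem isIso_of_epi_rank {E F : X.Modules} {n : ℕ} (hE : FlatMod.IsFinLocFreeOfRank n E)
    (hF : FlatMod.IsFinLocFreeOfRank n F) (φ : E ⟶ F) [Epi φ] : IsIso φ := by
  refine QCohMod.isIso_of_stalk φ fun x => (ConcreteCategory.isIso_iff_bijective _).2 ?_
  have := KTheory.LocFree.free_stalk (LocFree.isFinLocFree_of_rank hE) x
  have := KTheory.LocFree.free_stalk (LocFree.isFinLocFree_of_rank hF) x
  have := LocFree.finite_stalk (LocFree.isFinLocFree_of_rank hE) x
  have := LocFree.finite_stalk (LocFree.isFinLocFree_of_rank hF) x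
  let e := LinearEquiv.ofFinrankEq (R := X.presheaf.stalk x) (F.presheaf.stalk x) (E.presheaf.stalk x)
    ((LocFree.finrank_stalk hF x).trans (LocFree.finrank_stalk hE x).symm)
  have hs : Function.Surjective (KTheory.LocFree.stalkₗ φ x) := (QCohMod.epi_iff_stalk φ).1 ‹_› x
  have hbij : Function.Bijective (e.toLinearMap ∘ₗ KTheory.LocFree.stalkₗ φ x) :=
    OrzechProperty.bijective_of_surjective_endomorphism _ (e.surjective.comp hs)
  exact ⟨fun a b hab => hbij.1 (congrArg e hab), hs⟩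

/-- The conormal sheaf of an immersion locally cut out by `H₁`-regular sequences of length `c`. -/
theorem isFinLocFreeOfRank_conormal_h1 (i : X ⟶ Z) [IsImmersion i] [QuasiCompact i] {c : ℕ}
    (h : ∀ z : X, ∃ U : Z.affineOpens, i z ∈ U.1 ∧ IsClosedImmersion (i ∣_ U.1) ∧
      ∃ rs : List Γ(Z, U.1), rs.length = c ∧ RegImm.Kind.Seq .h1 Γ(Z, U.1) rs ∧
        RingHom.ker (i.app U.1).hom = Ideal.ofList rs) :
    FlatMod.IsFinLocFreeOfRank c (Omega.conormal i) := by
  have hfl : FlatMod.IsFinLocFree (Omega.conormal i) := by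
    refine KoszulLCI.isFinLocFree_conormal i fun z => ?_
    obtain ⟨U, hz, hci, rs, -, hseq, hker⟩ := h z
    exact ⟨U, hz, hci, rs, hseq, hker⟩
  refine LocFree.isFinLocFreeOfRank_iff_finrank.2 ⟨hfl, fun z => ?_⟩
  obtain ⟨U, hz, hci, rs, hlen, hseq, hker⟩ := h z
  have hW : OmegaSheaf.IsConormalChart i U.1 :=
    ⟨U.2, Groth.KoszulReg.isAffineOpen_preimage i U.1 U.2, Groth.KoszulReg.surjective_app i U.1 U.2⟩
  obtain ⟨b⟩ := KoszulLCI.nonempty_basis_conormal i hW rs.get hseq (by rw [hker, Set.range_list_get])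
  have := KTheory.LocFree.isQCoh hfl
  have hb : PicAux.Basis' (Omega.conormal i) (i ⁻¹ᵁ U.1) b := by
    refine KTheory.LocFree.basis'_of_affine hW.affine_preimage _ ?_
    rw [show (fun q : Fin rs.length → Γ(X, i ⁻¹ᵁ U.1) => ∑ j, q j • b j) = b.equivFun.symm from
      funext fun q => (b.equivFun_symm_apply q).symm]
    exact b.equivFun.symm.bijective
  exact (LocFree.finrank_stalk_of_basis hb hz).trans hlen

open Groth.KoszulLCI in
/-- A chart of a regular immersion over an affine open of the base, keeping the length. -/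
theorem exists_chart_length (φ : Z ⟶ S) (i : X ⟶ Z) [IsImmersion i] {c : ℕ}
    (h : RegImm.IsRegularImmersionOfCodim .regular c i) (z : X) :
    ∃ (U : Z.affineOpens) (W : S.affineOpens) (_ : U.1 ≤ φ ⁻¹ᵁ W.1) (_ : i z ∈ U.1),
      IsClosedImmersion (i ∣_ U.1) ∧ ∃ rs : List Γ(Z, U.1), rs.length = c ∧
        RegImm.Kind.Seq .h1 Γ(Z, U.1) rs ∧ RingHom.ker (i.app U.1).hom = Ideal.ofList rs := by
  obtain ⟨U, hzU, hci, rs, hlen, hrs, hker⟩ := h.2 z
  obtain ⟨W, hW, hzW, -⟩ := exists_isAffineOpen_mem_and_subset (show φ (i z) ∈ (⊤ : S.Opens) from trivial)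
  obtain ⟨b, hb, hzb⟩ := U.2.exists_basicOpen_le ⟨i z, show i z ∈ φ ⁻¹ᵁ W from hzW⟩ hzU
  let _ := (Z.presheaf.map (homOfLE (Z.basicOpen_le b)).op).hom.toAlgebra
  have := U.2.isLocalization_basicOpen b
  have hk : RingHom.ker (i.app (Z.basicOpen b)).hom =
      Ideal.ofList (rs.map (Z.presheaf.map (homOfLE (Z.basicOpen_le b)).op).hom) := by
    rw [ker_app_basicOpen i U.2 b, hker, Ideal.map_ofList]
  refine ⟨⟨Z.basicOpen b, U.2.basicOpen b⟩, ⟨W, hW⟩, hb, hzb,
    Groth.KoszulReg.isClosedImmersion_restrict i (Z.basicOpen_le b), _, ?_,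
    seq_map .h1 _ ?_ (seq_h1_of_koszul (seq_koszul_of_regular hrs)) ?_, hk⟩
  · rw [List.length_map, hlen]
  · exact RingHom.flat_algebraMap_iff.mpr (IsLocalization.flat Γ(Z, Z.basicOpen b) (Submonoid.powers b))
  · exact hk ▸ ne_top_of_le_ne_top ((U.2.basicOpen b).primeIdealOf ⟨i z, hzb⟩).isPrime.ne_top
      (ker_app_le_primeIdealOf i (U.2.basicOpen b) z hzb)

open Groth.KoszulLCI in
/-- The base change of a regular immersion of codimension `c` flat over the base has conormal sheaf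
locally free of rank `c`, and this sheaf is the pullback of the conormal sheaf. -/
theorem nonempty_conormal_baseChange_iso (f : Z ⟶ S) (i : X ⟶ Z) [Flat (i ≫ f)] [QuasiCompact i] {c : ℕ}
    (h : RegImm.IsRegularImmersionOfCodim .regular c i) (g : S' ⟶ S) (p : Z' ⟶ Z) (f' : Z' ⟶ S')
    (hZ : IsPullback p f' f g) (i' : X' ⟶ Z') (p' : X' ⟶ X) (hX : IsPullback p' i' i p) :
    Nonempty ((Scheme.Modules.pullback p').obj (Omega.conormal i) ≅ Omega.conormal i') := by
  have := h.1
  have : IsImmersion i' := MorphismProperty.of_isPullback hX h.1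
  have : QuasiCompact i' := MorphismProperty.of_isPullback hX ‹QuasiCompact i›
  have hc' : FlatMod.IsFinLocFreeOfRank c (Omega.conormal i') := by
    refine isFinLocFreeOfRank_conormal_h1 i' fun z => ?_
    obtain ⟨U, W, hUW, hzU, hci, rs, hlen, hrs, hker⟩ := exists_chart_length f i h (p' z)
    have hpU : p (i' z) ∈ U.1 := by
      rw [← Scheme.Hom.comp_apply, ← hX.w]
      exact hzU
    have hgW : g (f' (i' z)) ∈ W.1 := by
      rw [← Scheme.Hom.comp_apply f' g, ← hZ.w]
      exact hUW hpU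
    obtain ⟨W', hW', hzW', hW'W'⟩ := exists_isAffineOpen_mem_and_subset (show f' (i' z) ∈ g ⁻¹ᵁ W.1 from hgW)
    have hW'W : W' ≤ g ⁻¹ᵁ W.1 := hW'W'
    let U' := p ⁻¹ᵁ U.1 ⊓ f' ⁻¹ᵁ W'
    have hUX : U' = p ⁻¹ᵁ U.1 ⊓ f' ⁻¹ᵁ W' := rfl
    have : IsAffine W.1.toScheme := W.2
    have : IsAffine W'.toScheme := hW'
    have : IsAffine U.1.toScheme := U.2
    have hU' : IsAffineOpen U' := IsAffine.of_isIso ((Scheme.Hom.isPullback_resLE hZ hW'W hUW hUX).isoPullback).hom
    have hpoX := (isIso_pushoutSection_iff hZ hW'W hUW hUX).mp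
      (isIso_pushoutSection_of_isAffineOpen hZ hW'W hUW hUX W.2 hW' U.2)
    have hk' : RingHom.ker (i'.app U').hom =
        Ideal.ofList (rs.map (p.appLE U.1 U' inf_le_left).hom) := by
      rw [Groth.RegKinds.ker_app_baseChange i p i' p' hX U hU' inf_le_left, hker, Ideal.map_ofList]
    refine ⟨⟨U', hU'⟩, ⟨hpU, hzW'⟩, ?_, rs.map (p.appLE U.1 U' inf_le_left).hom, ?_, ?_, hk'⟩
    · have h1 := Scheme.Hom.isPullback_resLE hX (inf_le_left : U' ≤ p ⁻¹ᵁ U.1) (le_refl (i ⁻¹ᵁ U.1))
        (show i' ⁻¹ᵁ U' = p' ⁻¹ᵁ (i ⁻¹ᵁ U.1) ⊓ i' ⁻¹ᵁ U' from (inf_eq_right.mpr fun y hy => by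
          show i (p' y) ∈ U.1
          rw [← Scheme.Hom.comp_apply, hX.w]
          exact hy.1).symm)
      rw [Scheme.Hom.resLE_eq_morphismRestrict, Scheme.Hom.resLE_eq_morphismRestrict] at h1
      exact MorphismProperty.of_isPullback h1 hci
    · rw [List.length_map, hlen]
    let _ := (f.appLE W.1 U.1 hUW).hom.toAlgebra
    let _ := (f'.appLE W' U' inf_le_right).hom.toAlgebra
    let _ := (g.appLE W.1 W' hW'W).hom.toAlgebra
    let _ := (p.appLE U.1 U' inf_le_left).hom.toAlgebra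
    let _ : Algebra Γ(S, W.1) Γ(Z', U') :=
      ((f'.appLE W' U' inf_le_right).hom.comp (g.appLE W.1 W' hW'W).hom).toAlgebra
    have : IsScalarTower Γ(S, W.1) Γ(S', W') Γ(Z', U') := .of_algebraMap_eq fun _ => rfl
    have : IsScalarTower Γ(S, W.1) Γ(Z, U.1) Γ(Z', U') := .of_algebraMap_eq' (by
      have := congrArg (fun φ => φ.hom) hpoX.w
      simp only [CommRingCat.hom_comp] at this
      first | exact this | exact this.symm)
    have : Algebra.IsPushout Γ(S, W.1) Γ(S', W') Γ(Z, U.1) Γ(Z', U') := by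
      rw [← CommRingCat.isPushout_iff_isPushout]
      first | exact hpoX | exact hpoX.flip
    have hV : IsAffineOpen (i ⁻¹ᵁ U.1) := Groth.KoszulReg.isAffineOpen_preimage i U.1 U.2
    have hflat : Module.Flat Γ(S, W.1) (Γ(Z, U.1) ⧸ Ideal.ofList rs) := by
      refine flat_quotient_of_surjective (i.app U.1).hom (Groth.KoszulReg.surjective_app i U.1 U.2) ?_ _ hker
      show ((i.app U.1).hom.comp (f.appLE W.1 U.1 hUW).hom).Flat
      rw [← CommRingCat.hom_comp, i.app_eq_appLE, Scheme.Hom.appLE_comp_appLE]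
      exact Flat.flat_appLE (i ≫ f) W.2 hV _
    exact seq_baseChange (A := Γ(S, W.1)) Γ(S', W') .h1 (Or.inl rfl) rs hrs
  obtain ⟨φ, hφ, -⟩ := Groth.OmegaSheaf.existsUnique_isConormalMap (i := i') i p p' hX.w
  have := (Groth.Agent.S9372.result i' i p p' hX.flip φ hφ).1
  have := isIso_of_epi_rank (LocFree.isFinLocFreeOfRank_pullback p' (isFinLocFreeOfRank_conormal i h)) hc' φ
  exact ⟨asIso φ⟩

end Groth.CanonSheaf
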