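import Groth.Agent.CanonSheaf.FlatCase
import Groth.Agent.KoszulLCI.ConormalShortExact
import Groth.Agent.KoszulLCI.SchemeDescent
import Groth.Agent.GrassRep.Free
import Groth.Prelude.Def_Dual3
import Groth.Agent.Calg4.SmoothDescPoint

/-!
# The canonical sheaf of the generic fibre
-/

set_option autoImplicit false
set_option linter.style.haveILetI false

universe u

open CategoryTheory CategoryTheory.Limits AlgebraicGeometry TopologicalSpace

noncomputable section

namespace Groth.CanonSheaf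

open Groth.LocFree (extPow)
open scoped Groth.Abvar.PicCalc
open Groth.Abvar.PicCalc (cls pull)

variable {X Y Z B : Scheme.{u}}

theorem morLCI_of_isLCIMor {f : X ⟶ Y} (h : Dual3.IsLCIMor f) : KoszulLCI.MorLCI f := by
  rw [KoszulLCI.morLCI_iff_exists]
  intro x
  obtain ⟨U, V, e, hx, hU⟩ := h x
  exact ⟨V, U, hx, e, hU⟩

/-- A locally free module on an integral scheme has constant rank. -/
theorem exists_isFinLocFreeOfRank [IsIntegral X] {M : X.Modules} (h : FlatMod.IsFinLocFree M) :
    ∃ n, FlatMod.IsFinLocFreeOfRank n M := by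
  refine ⟨Module.finrank (X.presheaf.stalk (genericPoint X)) (M.presheaf.stalk (genericPoint X)),
    LocFree.isFinLocFreeOfRank_iff_finrank.2 ⟨h, fun x => ?_⟩⟩
  have := KTheory.LocFree.isQCoh h
  obtain ⟨U, n, s, hx, hs⟩ := PicAux.exists_basis_of_isFinLocFree h x
  have hη : genericPoint X ∈ U := (genericPoint_spec X).specializes (Set.mem_univ x) |>.mem_open U.2 hx
  rw [LocFree.finrank_stalk_of_basis hs hx, LocFree.finrank_stalk_of_basis hs hη]

/-- The codimension of a regular immersion is the rank of the conormal sheaf. -/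
theorem isRegularImmersionOfCodim_of_rank (i : X ⟶ Z) [IsImmersion i] [QuasiCompact i]
    [IsLocallyNoetherian Z] (h : KoszulLCI.MorLCI i) {c : ℕ}
    (hc : FlatMod.IsFinLocFreeOfRank c (Omega.conormal i)) :
    RegImm.IsRegularImmersionOfCodim .regular c i := by
  have hreg := (KoszulLCI.isRegularImmersion_kind_iff .koszul i).1
    (KoszulLCI.isRegularImmersion_of_morLCI i h)
  refine ⟨inferInstance, fun z => ?_⟩
  obtain ⟨U, hz, hci, rs, hseq, hker⟩ := hreg.2 z
  refine ⟨U, hz, hci, rs, ?_, hseq, hker⟩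
  have hW : OmegaSheaf.IsConormalChart i U.1 :=
    ⟨U.2, Groth.KoszulReg.isAffineOpen_preimage i U.1 U.2, Groth.KoszulReg.surjective_app i U.1 U.2⟩
  obtain ⟨b⟩ := KoszulLCI.nonempty_basis_conormal i hW rs.get
    (KoszulLCI.seq_h1_of_koszul (KoszulLCI.seq_koszul_of_regular hseq)) (by rw [hker, Set.range_list_get])
  have := KTheory.LocFree.isQCoh (LocFree.isFinLocFree_of_rank hc)
  have hb : PicAux.Basis' (Omega.conormal i) (i ⁻¹ᵁ U.1) b := by
    refine KTheory.LocFree.basis'_of_affine hW.affine_preimage _ ?_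
    rw [show (fun q : Fin rs.length → Γ(X, i ⁻¹ᵁ U.1) => ∑ j, q j • b j) = b.equivFun.symm from
      funext fun q => (b.equivFun_symm_apply q).symm]
    exact b.equivFun.symm.bijective
  exact (LocFree.finrank_stalk_of_basis hb hz).symm.trans (LocFree.finrank_stalk hc z)

/-- The conormal sheaf does not see a following open immersion. -/
theorem nonempty_conormal_comp_iso {W : Scheme.{u}} (l : X ⟶ W) (j : W ⟶ Z) [IsOpenImmersion j]
    [IsImmersion l] [QuasiCompact l] [QuasiCompact (l ≫ j)] :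
    Nonempty (Omega.conormal (l ≫ j) ≅ Omega.conormal l) := by
  obtain ⟨ψ, hψ, -⟩ := Groth.OmegaSheaf.existsUnique_isConormalMap (i := l) (l ≫ j) j (𝟙 X)
    (Category.id_comp _)
  obtain ⟨φ, hφ, -⟩ := Groth.OmegaSheaf.existsUnique_isConormalDiff (i := l) (f := j) (d := OmegaSh.dOmega j)
  obtain ⟨w, hS⟩ := Groth.Agent.S9711.result j l (l ≫ j) rfl (Omega.sheaf j) (OmegaSh.dOmega j)
    (Groth.OmegaSheaf.isUniversal_dOmega j) ψ hψ φ hφ
  have h0 : FlatMod.IsFinLocFreeOfRank 0 ((Scheme.Modules.pullback l).obj (Omega.sheaf j)) :=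
    LocFree.isFinLocFreeOfRank_pullback l (Groth.OmegaSheaf.isFinLocFreeOfRank_sheaf j 0)
  have hz : IsZero ((Scheme.Modules.pullback l).obj (Omega.sheaf j)) :=
    (QCohMod.isZero_iff_stalk _).2 fun x => by
      have := KTheory.LocFree.free_stalk (LocFree.isFinLocFree_of_rank h0) x
      have := LocFree.finite_stalk (LocFree.isFinLocFree_of_rank h0) x
      have := (Module.finBasisOfFinrankEq _ _ (LocFree.finrank_stalk h0 x)).repr.toEquiv.subsingleton
      exact @AddCommGrpCat.isZero_of_subsingleton _ this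
  have : Epi ψ := hS.exact.epi_f (hz.eq_of_tgt _ _)
  have : Mono ψ := hS.mono_f
  have hψi : IsIso ψ := isIso_of_mono_of_epi ψ
  exact ⟨((Scheme.Modules.pullbackId X).app _).symm ≪≫ @asIso _ _ _ _ ψ hψi⟩

/-- Restriction of the conormal sheaf to an open. -/
theorem nonempty_conormal_restrict_iso (i : X ⟶ Z) [IsImmersion i] [QuasiCompact i] (U : X.Opens)
    [QuasiCompact (U.ι ≫ i)] :
    Nonempty ((Scheme.Modules.pullback U.ι).obj (Omega.conormal i) ≅ Omega.conormal (U.ι ≫ i)) := by
  obtain ⟨V, hV, hVU⟩ := i.isEmbedding.isInducing.isOpen_iff.1 U.2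
  obtain rfl : i ⁻¹ᵁ (⟨V, hV⟩ : Z.Opens) = U := Opens.ext hVU
  let Z' : Z.Opens := ⟨V, hV⟩
  have sq : IsPullback (i ∣_ Z') (i ⁻¹ᵁ Z').ι Z'.ι i := isPullback_morphismRestrict i Z'
  have : IsImmersion (i ∣_ Z') := MorphismProperty.of_isPullback sq.flip ‹IsImmersion i›
  have : QuasiCompact (i ∣_ Z') := MorphismProperty.of_isPullback sq.flip ‹QuasiCompact i›
  obtain ⟨φ, hφ, -⟩ := Groth.OmegaSheaf.existsUnique_isConormalMap (i := i ∣_ Z') i Z'.ι (i ⁻¹ᵁ Z').ι
    sq.w.symm
  have := (Groth.Agent.S9372.result (i ∣_ Z') i Z'.ι (i ⁻¹ᵁ Z').ι sq φ hφ).2 inferInstance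
  have : QuasiCompact ((i ∣_ Z') ≫ Z'.ι) := by rw [morphismRestrict_ι]; infer_instance
  obtain ⟨e⟩ := nonempty_conormal_comp_iso (i ∣_ Z') Z'.ι
  refine ⟨asIso φ ≪≫ e.symm ≪≫ eqToIso ?_⟩
  congr 1
  exact morphismRestrict_ι i Z'

/-- Classes coming from a point restrict trivially. -/
theorem pull_eq_one_of_factor {S T : Scheme.{u}} [Subsingleton S] (s : T ⟶ S) (u : S ⟶ X)
    (c : PicLoc.PicSet X) : pull (s ≫ u) c = 1 := by
  rw [Abvar.PicCalc.pull_comp, Abvar.PicCalc.eq_one_of_subsingleton (pull u c), map_one]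

theorem exists_smooth_embedding (F : Type u) [Field F] (pB : B ⟶ Spec (CommRingCat.of F))
    [LocallyOfFiniteType pB] (U : B.Opens) (hU : IsAffineOpen U) :
    ∃ (V : Scheme.{u}) (v : V ⟶ Spec (CommRingCat.of F)) (b : U.toScheme ⟶ V) (N : ℕ),
      IsClosedImmersion b ∧ SmoothOfRelativeDimension N v ∧ QuasiSeparated v ∧ IsLocallyNoetherian V ∧
        b ≫ v = U.ι ≫ pB := by
  have : IsAffine U.toScheme := hU
  let q := U.ι ≫ pB
  let φ : CommRingCat.of F ⟶ Γ(U.toScheme, ⊤) := (Scheme.ΓSpecIso _).inv ≫ q.appTop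
  have hq : q = U.toScheme.isoSpec.hom ≫ Spec.map φ := by
    rw [Spec.map_comp, Scheme.isoSpec_hom_naturality_assoc, Scheme.isoSpec_Spec_hom, ← Spec.map_comp,
      Iso.inv_hom_id, Spec.map_id, Category.comp_id]
  algebraize [φ.hom]
  have : Algebra.FiniteType F Γ(U.toScheme, ⊤) := by
    have hft : LocallyOfFiniteType (U.toScheme.isoSpec.hom ≫ Spec.map φ) := hq ▸ inferInstance
    have h2 : LocallyOfFiniteType (Spec.map φ) := by
      rw [← Iso.inv_hom_id_assoc U.toScheme.isoSpec (Spec.map φ)]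
      infer_instance
    exact (HasRingHomProperty.Spec_iff (P := @LocallyOfFiniteType)).1 h2
  obtain ⟨N, α, hα⟩ := Algebra.FiniteType.iff_quotient_mvPolynomial''.1 this
  let cst : CommRingCat.of F ⟶ CommRingCat.of (MvPolynomial (Fin N) F) :=
    CommRingCat.ofHom (algebraMap F (MvPolynomial (Fin N) F))
  let mapα : CommRingCat.of (MvPolynomial (Fin N) F) ⟶ Γ(U.toScheme, ⊤) := CommRingCat.ofHom α.toRingHom
  have hc : cst ≫ mapα = φ := CommRingCat.hom_ext α.comp_algebraMap
  have h0 := Groth.GrassRep.standardSmooth_mvPolynomial (R := F) (ULift.{u} (Fin N))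
  rw [Nat.card_ulift, Nat.card_fin] at h0
  have h1 : Algebra.IsStandardSmoothOfRelativeDimension N F (MvPolynomial (Fin N) F) :=
    Algebra.IsStandardSmoothOfRelativeDimension.of_algEquiv (n := N) (MvPolynomial.renameEquiv F Equiv.ulift)
  refine ⟨_, Spec.map cst, U.toScheme.isoSpec.hom ≫ Spec.map mapα, N, ?_, ?_, inferInstance, inferInstance, ?_⟩
  · have := IsClosedImmersion.spec_of_surjective mapα hα
    infer_instance
  · exact (HasRingHomProperty.Spec_iff (P := @SmoothOfRelativeDimension N)).2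
      (RingHom.locally_of RingHom.isStandardSmoothOfRelativeDimension_respectsIso _
        ((RingHom.isStandardSmoothOfRelativeDimension_algebraMap N).mpr h1))
  · rw [Category.assoc, ← Spec.map_comp, hc]
    exact hq.symm

/-- The canonical sheaf restricted to the generic fibre is a canonical sheaf of the generic fibre. -/
theorem isCanonical_genericFibre {F : Type u} [Field F] [IsIntegral X] [IsIntegral B]
    (pX : X ⟶ Spec (CommRingCat.of F)) (pB : B ⟶ Spec (CommRingCat.of F))
    [LocallyOfFiniteType pX] [LocallyOfFiniteType pB]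
    (π : X ⟶ B) (hπ : π ≫ pB = pX) (hπl : KoszulLCI.MorLCI π) (hBl : KoszulLCI.MorLCI pB)
    {ω : X.Modules} (hω : Canon.IsCanonical pX ω) :
    Canon.IsCanonical (pullback.snd π (B.fromSpecStalk (genericPoint B)))
      ((Scheme.Modules.pullback (pullback.fst π (B.fromSpecStalk (genericPoint B)))).obj ω) := by
  obtain ⟨Z, i, g, c, n, e, hi, hg, hqc, hqs, hv⟩ := hω
  have := hi.1
  have : Smooth g := SmoothOfRelativeDimension.smooth n g
  have hlcomp : MorphismProperty.IsStableUnderComposition (KoszulLCI.MorLCI.{u}) :=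
    HasRingHomProperty.stableUnderComposition KoszulLCI.ringLCI_stableUnderComposition
  let η := B.fromSpecStalk (genericPoint B)
  have : Flat η := Groth.Calg4.flat_fromSpecStalk B _
  have : Subsingleton ↥(Spec (B.presheaf.stalk (genericPoint B))) :=
    inferInstanceAs (Subsingleton (PrimeSpectrum B.functionField))
  let p := pullback.fst π η
  let s := pullback.snd π η
  -- the factorisation
  let P := pullback g pB
  let l : X ⟶ P := pullback.lift i π (e.trans hπ.symm)
  have hl₁ : l ≫ pullback.fst g pB = i := pullback.lift_fst _ _ _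
  have hl₂ : l ≫ pullback.snd g pB = π := pullback.lift_snd _ _ _
  have : IsImmersion (l ≫ pullback.fst g pB) := by rw [hl₁]; infer_instance
  have : IsImmersion l := IsImmersion.of_comp l (pullback.fst g pB)
  have : QuasiCompact (l ≫ pullback.fst g pB) := by rw [hl₁]; infer_instance
  have : IsLocallyNoetherian B := LocallyOfFiniteType.isLocallyNoetherian pB
  have : IsLocallyNoetherian P := LocallyOfFiniteType.isLocallyNoetherian (pullback.snd g pB)
  have : IsLocallyNoetherian Z := LocallyOfFiniteType.isLocallyNoetherian g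
  have : QuasiSeparated (pullback.fst g pB) := by
    have : QuasiSeparated pB := by
      have := IsLocallyNoetherian.quasiSeparatedSpace (X := B)
      infer_instance
    infer_instance
  have : QuasiCompact l := QuasiCompact.of_comp l (pullback.fst g pB)
  have : Smooth (pullback.snd g pB) := inferInstance
  have hllci : KoszulLCI.MorLCI l :=
    KoszulLCI.morLCI_of_comp_smooth l (pullback.snd g pB) (by rw [hl₂]; exact hπl)
  have hl1 : ∀ z, RegImm.IsRegularImmersionAt .h1 l z := fun z => by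
    obtain ⟨U, hz, hci, rs, hs, hk⟩ := (KoszulLCI.isRegularImmersion_of_morLCI l hllci).2 z
    exact ⟨U, hz, hci, rs, KoszulLCI.seq_h1_of_koszul hs, hk⟩
  obtain ⟨cl, hcl⟩ := exists_isFinLocFreeOfRank (KoszulLCI.isFinLocFree_conormal l hl1)
  have := KTheory.LocFree.isQCoh (LocFree.isFinLocFree_of_rank hcl)
  let W := pullback g (η ≫ pB)
  let r : W ⟶ P := pullback.lift (pullback.fst _ _) (pullback.snd _ _ ≫ η)
    (by rw [Category.assoc]; exact pullback.condition)
  have sqr : IsPullback r (pullback.snd g (η ≫ pB)) (pullback.snd g pB) η :=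
    IsPullback.of_right (h₁₂ := pullback.fst g pB) (v₁₃ := g) (h₂₂ := pB)
      (by rw [pullback.lift_fst]; exact IsPullback.of_hasPullback g (η ≫ pB))
      (pullback.lift_snd _ _ _) (IsPullback.of_hasPullback g pB)
  have : Flat r := MorphismProperty.of_isPullback sqr.flip ‹Flat η›
  let iK : pullback π η ⟶ W := pullback.lift (p ≫ i) s (by
    rw [Category.assoc, e, ← hπ, ← Category.assoc, ← Category.assoc, pullback.condition])
  have hiK : iK ≫ pullback.snd g (η ≫ pB) = s := pullback.lift_snd _ _ _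
  have sqK : IsPullback p iK l r := IsPullback.of_bot (v₂₁ := pullback.snd g (η ≫ pB))
    (v₂₂ := pullback.snd g pB) (h₃₁ := η)
    (by rw [hiK, hl₂]; exact IsPullback.of_hasPullback π η)
    (by apply pullback.hom_ext
        · rw [Category.assoc, hl₁, Category.assoc, pullback.lift_fst, pullback.lift_fst]
        · rw [Category.assoc, hl₂, Category.assoc, pullback.lift_snd, ← Category.assoc iK, hiK]
          exact pullback.condition) sqr
  have : IsImmersion iK := MorphismProperty.of_isPullback sqK ‹IsImmersion l›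
  have : QuasiCompact iK := MorphismProperty.of_isPullback sqK ‹QuasiCompact l›
  obtain ⟨φ, hφ, -⟩ := Groth.OmegaSheaf.existsUnique_isConormalMap (i := iK) l r p sqK.w
  have := (Groth.Agent.S9372.result iK l r p sqK.flip φ hφ).2 inferInstance
  have hcK : FlatMod.IsFinLocFreeOfRank cl (Omega.conormal iK) :=
    LocFree.isFinLocFreeOfRank_of_iso (asIso φ) (LocFree.isFinLocFreeOfRank_pullback p hcl)
  let gW := pullback.snd g (η ≫ pB)
  have : SmoothOfRelativeDimension n gW :=
    (smoothOfRelativeDimension_isStableUnderBaseChange n).of_isPullback (IsPullback.of_hasPullback g (η ≫ pB)) hg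
  have : QuasiSeparated gW := MorphismProperty.of_isPullback (IsPullback.of_hasPullback g (η ≫ pB)) hqs
  have : LocallyOfFiniteType gW := inferInstance
  have : IsLocallyNoetherian (Spec (B.presheaf.stalk (genericPoint B))) := inferInstance
  have : IsLocallyNoetherian W := LocallyOfFiniteType.isLocallyNoetherian gW
  refine ⟨W, iK, gW, cl, n, hiK,
    isRegularImmersionOfCodim_of_rank iK (KoszulLCI.morLCI_of_isPullback_flat sqK hllci) hcK,
    inferInstance, inferInstance, inferInstance, ?_⟩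
  have hc := isFinLocFreeOfRank_conormal i hi
  have hωI := isInvertible_of_isCanonicalVia hc hv
  obtain ⟨D, Ω, hD, hΩ, ⟨f⟩⟩ := hv
  have hI := isInvertible_det hc hD
  have hJ := isInvertible_det (Groth.OmegaSheaf.isFinLocFreeOfRank_sheaf g n) hΩ
  have := KTheory.LocFree.isQCoh (LocFree.isFinLocFree_of_rank hc)
  obtain ⟨Dl, -, hDl⟩ := Groth.LocFree.exists_isExtPow cl (Omega.conormal l)
  have hIl := isInvertible_det hcl hDl
  have := KTheory.LocFree.isQCoh (LocFree.isFinLocFree_of_rank (LocFree.isFinLocFreeOfRank_pullback p hcl))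
  have := KTheory.LocFree.isQCoh (LocFree.isFinLocFree_of_rank (Groth.OmegaSheaf.isFinLocFreeOfRank_sheaf g n))
  obtain ⟨eW⟩ := Groth.OmegaSheaf.nonempty_pullback_iso (IsPullback.of_hasPullback g (η ≫ pB))
    (Groth.OmegaSheaf.isUniversal_dOmega g) (Groth.OmegaSheaf.isUniversal_dOmega gW)
  refine ⟨_, _, Groth.LocFree.isExtPow_of_iso_left cl (asIso φ) (Groth.LocFree.isExtPow_pullback p hDl),
    Groth.LocFree.isExtPow_of_iso_left n eW (Groth.LocFree.isExtPow_pullback _ hΩ), ?_⟩
  -- the key equation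
  have key : pull p (cls hIl) = pull p (cls hI) := by
    rcases isEmpty_or_nonempty ↥(pullback π η) with hE | ⟨⟨x⟩⟩
    · exact (Abvar.PicCalc.eq_one_of_subsingleton _).trans (Abvar.PicCalc.eq_one_of_subsingleton _).symm
    obtain ⟨B0, hB0, hηB0, -⟩ := exists_isAffineOpen_mem_and_subset (X := B)
      (show genericPoint B ∈ (⊤ : B.Opens) from trivial)
    obtain ⟨V, v, b, N, hb, hvN, hvqs, hV, hbv⟩ := exists_smooth_embedding F pB B0 hB0
    have : Nonempty B0.toScheme := ⟨⟨_, hηB0⟩⟩
    have : Smooth v := SmoothOfRelativeDimension.smooth N v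
    have hηr : Set.range η ⊆ Set.range B0.ι := by
      rw [Scheme.range_fromSpecStalk, Scheme.Opens.range_ι]
      exact fun y hy => hy.mem_open B0.2 hηB0
    let η0 := IsOpenImmersion.lift B0.ι η hηr
    have hη0 : η0 ≫ B0.ι = η := IsOpenImmersion.lift_fac _ _ _
    let U := π ⁻¹ᵁ B0
    let π0 := π ∣_ B0
    have sqπ : IsPullback π0 U.ι B0.ι π := isPullback_morphismRestrict π B0
    let p0 : pullback π η ⟶ U.toScheme := sqπ.lift (s ≫ η0) p (by
      rw [Category.assoc, hη0]; exact pullback.condition.symm)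
    have hp0 : p0 ≫ U.ι = p := sqπ.lift_snd _ _ _
    have hp0π : p0 ≫ π0 = s ≫ η0 := sqπ.lift_fst _ _ _
    -- the open piece of `P`
    let P0 := pullback g (B0.ι ≫ pB)
    let r0 : P0 ⟶ P := pullback.lift (pullback.fst _ _) (pullback.snd _ _ ≫ B0.ι)
      (by rw [Category.assoc]; exact pullback.condition)
    have sqr0 : IsPullback r0 (pullback.snd g (B0.ι ≫ pB)) (pullback.snd g pB) B0.ι :=
      IsPullback.of_right (h₁₂ := pullback.fst g pB) (v₁₃ := g) (h₂₂ := pB)
        (by rw [pullback.lift_fst]; exact IsPullback.of_hasPullback g (B0.ι ≫ pB))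
        (pullback.lift_snd _ _ _) (IsPullback.of_hasPullback g pB)
    let l0 : U.toScheme ⟶ P0 := pullback.lift (U.ι ≫ i) π0 (by
      rw [Category.assoc, e, ← hπ, ← Category.assoc, ← Category.assoc, sqπ.w])
    have hl0 : l0 ≫ pullback.snd g (B0.ι ≫ pB) = π0 := pullback.lift_snd _ _ _
    have sq0 : IsPullback U.ι l0 l r0 := IsPullback.of_bot (v₂₁ := pullback.snd g (B0.ι ≫ pB))
      (v₂₂ := pullback.snd g pB) (h₃₁ := B0.ι)
      (by rw [hl0, hl₂]; exact sqπ.flip)
      (by apply pullback.hom_ext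
          · rw [Category.assoc, hl₁, Category.assoc, pullback.lift_fst, pullback.lift_fst]
          · rw [Category.assoc, hl₂, Category.assoc, pullback.lift_snd, ← Category.assoc l0, hl0]
            exact sqπ.w.symm) sqr0
    have : Flat r0 := MorphismProperty.of_isPullback sqr0.flip (inferInstance : Flat B0.ι)
    have : IsImmersion l0 := MorphismProperty.of_isPullback sq0 ‹IsImmersion l›
    have : QuasiCompact l0 := MorphismProperty.of_isPullback sq0 ‹QuasiCompact l›
    have hl0lci : KoszulLCI.MorLCI l0 := KoszulLCI.morLCI_of_isPullback_flat sq0 hllci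
    have hl01 : ∀ z, RegImm.IsRegularImmersionAt .h1 l0 z := fun z => by
      obtain ⟨U, hz, hci, rs, hs, hk⟩ := (KoszulLCI.isRegularImmersion_of_morLCI l0 hl0lci).2 z
      exact ⟨U, hz, hci, rs, KoszulLCI.seq_h1_of_koszul hs, hk⟩
    obtain ⟨φ0, hφ0, -⟩ := Groth.OmegaSheaf.existsUnique_isConormalMap (i := l0) l r0 U.ι sq0.w
    have := (Groth.Agent.S9372.result l0 l r0 U.ι sq0.flip φ0 hφ0).2 inferInstance
    have hcl0 : FlatMod.IsFinLocFreeOfRank cl (Omega.conormal l0) :=
      LocFree.isFinLocFreeOfRank_of_iso (asIso φ0) (LocFree.isFinLocFreeOfRank_pullback U.ι hcl)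
    have := KTheory.LocFree.isQCoh (LocFree.isFinLocFree_of_rank (LocFree.isFinLocFreeOfRank_pullback U.ι hcl))
    have hDl0 : ExtPow.IsExtPow cl (Omega.conormal l0) ((Scheme.Modules.pullback U.ι).obj Dl) :=
      Groth.LocFree.isExtPow_of_iso_left cl (asIso φ0) (Groth.LocFree.isExtPow_pullback U.ι hDl)
    -- the smooth ambient scheme
    let Q := pullback g v
    let k : P0 ⟶ Q := pullback.lift (pullback.fst _ _) (pullback.snd _ _ ≫ b)
      (by rw [Category.assoc, hbv]; exact pullback.condition)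
    have sqk : IsPullback k (pullback.snd g (B0.ι ≫ pB)) (pullback.snd g v) b :=
      IsPullback.of_right (h₁₂ := pullback.fst g v) (v₁₃ := g) (h₂₂ := v)
        (by rw [pullback.lift_fst, hbv]; exact IsPullback.of_hasPullback g (B0.ι ≫ pB))
        (pullback.lift_snd _ _ _) (IsPullback.of_hasPullback g v)
    have : IsImmersion k := MorphismProperty.of_isPullback sqk.flip (inferInstance : IsImmersion b)
    have : QuasiCompact k := MorphismProperty.of_isPullback sqk.flip (inferInstance : QuasiCompact b)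
    have hblci : KoszulLCI.MorLCI b := KoszulLCI.morLCI_of_comp_smooth b v (by
      rw [hbv]; exact MorphismProperty.comp_mem _ _ _ (KoszulLCI.morLCI_of_smooth B0.ι) hBl)
    have hb1 : ∀ z, RegImm.IsRegularImmersionAt .h1 b z := fun z => by
      obtain ⟨U, hz, hci, rs, hs, hk⟩ := (KoszulLCI.isRegularImmersion_of_morLCI b hblci).2 z
      exact ⟨U, hz, hci, rs, KoszulLCI.seq_h1_of_koszul hs, hk⟩
    obtain ⟨cb, hcb⟩ := exists_isFinLocFreeOfRank (KoszulLCI.isFinLocFree_conormal b hb1)
    have := KTheory.LocFree.isQCoh (LocFree.isFinLocFree_of_rank hcb)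
    obtain ⟨φk, hφk, -⟩ := Groth.OmegaSheaf.existsUnique_isConormalMap (i := k) b (pullback.snd g v)
      (pullback.snd g (B0.ι ≫ pB)) sqk.w.symm
    have := (Groth.Agent.S9372.result k b (pullback.snd g v) (pullback.snd g (B0.ι ≫ pB)) sqk φk hφk).2
      inferInstance
    obtain ⟨Db, -, hDb⟩ := Groth.LocFree.exists_isExtPow cb (Omega.conormal b)
    have hIb := isInvertible_det hcb hDb
    have hck : FlatMod.IsFinLocFreeOfRank cb (Omega.conormal k) :=
      LocFree.isFinLocFreeOfRank_of_iso (asIso φk) (LocFree.isFinLocFreeOfRank_pullback _ hcb)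
    have := KTheory.LocFree.isQCoh (LocFree.isFinLocFree_of_rank hck)
    have := KTheory.LocFree.isQCoh (LocFree.isFinLocFree_of_rank
      (LocFree.isFinLocFreeOfRank_pullback (pullback.snd g (B0.ι ≫ pB)) hcb))
    obtain ⟨a, ha, -⟩ := Groth.OmegaSheaf.existsUnique_isConormalMap (i := l0 ≫ k) k (𝟙 _) l0
      (Category.comp_id _).symm
    obtain ⟨a', ha', -⟩ := Groth.OmegaSheaf.existsUnique_isConormalMap (i := l0) (l0 ≫ k) k (𝟙 U.toScheme)
      (Category.id_comp _)
    obtain ⟨w, hS⟩ := KoszulLCI.conormal_shortExact l0 k ha ha' hl01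
    have hA : FlatMod.IsFinLocFreeOfRank cb ((Scheme.Modules.pullback l0).obj (Omega.conormal k)) :=
      LocFree.isFinLocFreeOfRank_pullback l0 hck
    have hbig := LocFree.isFinLocFreeOfRank_of_shortExact hS hA hcl0
    have := KTheory.LocFree.isQCoh (LocFree.isFinLocFree_of_rank hbig)
    obtain ⟨Dbig, -, hDbig⟩ := Groth.LocFree.exists_isExtPow (cb + cl) (Omega.conormal (l0 ≫ k))
    obtain ⟨e₁⟩ := nonempty_det_iso hS hA hcl0 (Groth.LocFree.isExtPow_pullback l0
      (Groth.LocFree.isExtPow_of_iso_left cb (asIso φk) (Groth.LocFree.isExtPow_pullback _ hDb))) hDbig hDl0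
    have hk₁ : (l0 ≫ k) ≫ pullback.fst g v = U.ι ≫ i := by
      rw [Category.assoc, pullback.lift_fst, pullback.lift_fst]
    have hk₂ : (l0 ≫ k) ≫ pullback.snd g v = π0 ≫ b := by
      rw [Category.assoc, pullback.lift_snd, ← Category.assoc, hl0]
    have : QuasiCompact U.ι := MorphismProperty.of_isPullback sqπ (inferInstance : QuasiCompact B0.ι)
    have : QuasiCompact (U.ι ≫ i) := inferInstance
    obtain ⟨eU⟩ := nonempty_conormal_restrict_iso i U
    have hcU : FlatMod.IsFinLocFreeOfRank c (Omega.conormal (U.ι ≫ i)) :=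
      LocFree.isFinLocFreeOfRank_of_iso eU (LocFree.isFinLocFreeOfRank_pullback U.ι hc)
    have := KTheory.LocFree.isQCoh (LocFree.isFinLocFree_of_rank (LocFree.isFinLocFreeOfRank_pullback U.ι hc))
    have hDU : ExtPow.IsExtPow c (Omega.conormal (U.ι ≫ i)) ((Scheme.Modules.pullback U.ι).obj D) :=
      Groth.LocFree.isExtPow_of_iso_left c eU (Groth.LocFree.isExtPow_pullback U.ι hD)
    have := KTheory.LocFree.isQCoh (LocFree.isFinLocFree_of_rank (Groth.OmegaSheaf.isFinLocFreeOfRank_sheaf v N))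
    obtain ⟨ΩV, -, hΩV⟩ := Groth.LocFree.exists_isExtPow N (Omega.sheaf v)
    have sqQ := (IsPullback.of_hasPullback g v).flip
    have heq : c + N = cb + cl := (LocFree.finrank_stalk (nonempty_det_conormal_iso sqQ (l0 ≫ k) (U.ι ≫ i)
      (π0 ≫ b) hk₁ hk₂ hcU hDU hΩV (Groth.LocFree.isExtPow_extPow (c + N) _)).1 (p0 x)).symm.trans
        (LocFree.finrank_stalk hbig (p0 x))
    obtain ⟨e₂⟩ := (nonempty_det_conormal_iso sqQ (l0 ≫ k) (U.ι ≫ i) (π0 ≫ b) hk₁ hk₂ hcU hDU hΩV
      (heq ▸ hDbig)).2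
    have hKV := isInvertible_det (Groth.OmegaSheaf.isFinLocFreeOfRank_sheaf v N) hΩV
    have hPb := PicLoc.isInvertible_pullback l0 (PicLoc.isInvertible_pullback (pullback.snd g (B0.ι ≫ pB)) hIb)
    have q := (Abvar.PicCalc.nonempty_iso_iff
      (Abvar.PicCalc.isInvertible_tensorMod (PicLoc.isInvertible_pullback U.ι hI)
        (PicLoc.isInvertible_pullback (π0 ≫ b) hKV))
      (Abvar.PicCalc.isInvertible_tensorMod hPb (PicLoc.isInvertible_pullback U.ι hIl))).1 ⟨e₂ ≪≫ e₁.symm⟩
    rw [Abvar.PicCalc.cls_tensorMod (PicLoc.isInvertible_pullback U.ι hI)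
        (PicLoc.isInvertible_pullback (π0 ≫ b) hKV),
      Abvar.PicCalc.cls_tensorMod hPb (PicLoc.isInvertible_pullback U.ι hIl),
      ← Abvar.PicCalc.pull_cls U.ι hI, ← Abvar.PicCalc.pull_cls U.ι hIl,
      ← Abvar.PicCalc.pull_cls (π0 ≫ b) hKV,
      ← Abvar.PicCalc.pull_cls l0 (PicLoc.isInvertible_pullback (pullback.snd g (B0.ι ≫ pB)) hIb),
      ← Abvar.PicCalc.pull_cls (pullback.snd g (B0.ι ≫ pB)) hIb,
      ← Abvar.PicCalc.pull_comp, hl0] at q
    have q' := congrArg (pull p0) q
    simp only [map_mul, ← Abvar.PicCalc.pull_comp] at q'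
    rw [hp0, show p0 ≫ π0 ≫ b = s ≫ η0 ≫ b by rw [← Category.assoc, hp0π, Category.assoc], hp0π,
      pull_eq_one_of_factor s (η0 ≫ b), pull_eq_one_of_factor s η0, mul_one, one_mul] at q'
    exact q'.symm
  have hω' := PicLoc.isInvertible_pullback p hωI
  have hIl' := PicLoc.isInvertible_pullback p hIl
  refine (Abvar.PicCalc.nonempty_iso_iff (Abvar.PicCalc.isInvertible_tensorMod hω' hIl')
    (PicLoc.isInvertible_pullback iK (PicLoc.isInvertible_pullback (pullback.fst g (η ≫ pB)) hJ))).2 ?_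
  rw [Abvar.PicCalc.cls_tensorMod hω' hIl', ← Abvar.PicCalc.pull_cls p hωI, ← Abvar.PicCalc.pull_cls p hIl, key,
    ← map_mul, ← Abvar.PicCalc.cls_tensorMod hωI hI,
    (Abvar.PicCalc.nonempty_iso_iff _ (PicLoc.isInvertible_pullback i hJ)).1 ⟨f⟩,
    ← Abvar.PicCalc.pull_cls i hJ, ← Abvar.PicCalc.pull_comp,
    ← Abvar.PicCalc.pull_cls iK (PicLoc.isInvertible_pullback (pullback.fst g (η ≫ pB)) hJ),
    ← Abvar.PicCalc.pull_cls (pullback.fst g (η ≫ pB)) hJ, ← Abvar.PicCalc.pull_comp, pullback.lift_fst]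

end Groth.CanonSheaf
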